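import Mathlib
import Cfsg.Agent.DefectOne.Bridge
import Cfsg.Agent.Blocks.Glauberman
import Cfsg.Agent.PermChar.Basic

/-!
The constituents of a permutation character of degree `2p` which vanishes at the elements of order `p`.
-/

set_option autoImplicit false
set_option linter.unusedSectionVars false
set_option linter.style.haveILetI false

namespace CfsgLib.WielandtTwoP

open Cfsg CfsgLib.CharBasics CfsgLib.DefectOne CfsgLib.PermChar MulAction
open scoped ComplexConjugate

universe u

variable {G : Type u} [Group G] [Fintype G] {p : ℕ} [Fact p.Prime] (D : Data G p)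

/-- The sum of all coefficients at the singular elements. -/
noncomputable def sv (χ : IrrCharacter G) : ℤ := ∑ ψ : IrrCharacter D.V, D.S χ ψ

variable (hV : Nat.card D.V ∣ 2)

include hV in
theorem comm_V (v w : D.V) : v * w = w * v := by
  haveI := Fact.mk Nat.prime_two
  rcases (Nat.dvd_prime Nat.prime_two).1 hV with h | h
  · haveI : Subsingleton D.V := Finite.card_le_one_iff_subsingleton.1 (le_of_eq h)
    exact Subsingleton.elim _ _
  · haveI := isCyclic_of_prime_card (α := D.V) h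
    exact (IsCyclic.commGroup (α := D.V)).mul_comm v w

include hV in
theorem deg_V (φ : IrrCharacter D.V) : charDegree (φ : D.V → ℂ) = 1 := by
  obtain ⟨n, ρ, hirr, hρ⟩ := φ.2
  haveI : IsMulCommutative D.V := ⟨⟨comm_V D hV⟩⟩
  exact charDegree_comm φ.2

include hV in
theorem conj_V (h : D.H) (v : D.V) : (h : D.H) * v * h⁻¹ = v := by
  haveI := D.normal_V
  rcases (Nat.dvd_prime Nat.prime_two).1 hV with h1 | h2
  · haveI : Subsingleton D.V := Finite.card_le_one_iff_subsingleton.1 (le_of_eq h1)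
    have e := Subsingleton.elim v 1
    subst e
    simp
  · by_cases hv : v = 1
    · subst hv; simp
    by_cases hw : (⟨h * v * h⁻¹, (D.normal_V).conj_mem _ v.2 h⟩ : D.V) = 1
    · exfalso
      refine hv (Subtype.ext ?_)
      have := congrArg Subtype.val hw
      simpa [conj_eq_one_iff] using this
    · obtain ⟨a, b, hab, huniv⟩ := Nat.card_eq_two_iff.1 h2
      have hmem : ∀ x : D.V, x = a ∨ x = b := fun x => by
        have : x ∈ ({a, b} : Set D.V) := huniv ▸ Set.mem_univ x
        simpa using this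
      have key : ∀ x y : D.V, x ≠ 1 → y ≠ 1 → x = y := by
        intro x y hx hy
        rcases hmem x with rfl | rfl <;> rcases hmem y with rfl | rfl <;>
          rcases hmem 1 with h | h <;> simp_all
      exact congrArg Subtype.val (key _ v hw hv)

include hV in
theorem cj_eq (h : D.H) (φ : IrrCharacter D.V) : D.cj h φ = φ := by
  refine Subtype.ext (funext fun v => ?_)
  rw [D.cj_apply]
  exact congrArg (φ : D.V → ℂ) (Subtype.ext (by
    first
      | exact conj_V D hV h v
      | (have := conj_V D hV h⁻¹ v; simpa using this)))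

include hV in
theorem orb_eq (φ : IrrCharacter D.V) : D.orb φ = {φ} := by
  ext ψ
  rw [Data.mem_orb, Finset.mem_singleton]
  exact ⟨fun ⟨h, hh⟩ => by rw [← hh, cj_eq D hV], fun h => ⟨1, by rw [h, D.cj_one]⟩⟩

include hV in
theorem odeg_eq (φ : IrrCharacter D.V) : D.odeg φ = 1 := by
  rw [Data.odeg, orb_eq D hV, Finset.card_singleton, one_mul, deg_V D hV]

include hV in
theorem card_U (φ : IrrCharacter D.V) : Nat.card (D.U φ) = D.V.index := by
  rw [D.index_V_eq φ, orb_eq D hV, Finset.card_singleton, mul_one]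

include hV in
theorem dvd_deg_sub_sv (χ : IrrCharacter G) : (p : ℤ) ∣ (charDegree (χ : G → ℂ) : ℤ) - sv D χ := by
  have h := D.deg_congr χ
  simp only [deg_V D hV, Nat.cast_one, mul_one] at h
  exact h

include hV in
theorem sum_singular (χ : IrrCharacter G) :
    ∑ i ∈ Finset.univ.erase (0 : ZMod p), (χ : G → ℂ) (D.pt (i, 1)) = -(sv D χ : ℂ) := by
  classical
  rw [Finset.sum_congr rfl fun i hi => D.apply_pt' χ (Finset.mem_erase.1 hi).1 1]
  simp only [apply_one (isCharacter_of_irr (Subtype.property _)), deg_V D hV, Nat.cast_one, mul_one]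
  rw [Finset.sum_comm, sv, Int.cast_sum, ← Finset.sum_neg_distrib]
  refine Finset.sum_congr rfl fun ψ _ => ?_
  rw [Finset.sum_comm, Data.S, Int.cast_sum, ← Finset.sum_neg_distrib]
  refine Finset.sum_congr rfl fun j _ => ?_
  rw [← Finset.mul_sum]
  by_cases hj : j = 0
  · subst hj; simp [D.d_zero]
  · have h := Data.sum_ee_mul (p := p) j
    rw [← Finset.sum_erase_add _ _ (Finset.mem_univ 0), if_neg hj, zero_mul, Data.ee_zero] at h
    rw [eq_neg_of_add_eq_zero_left h, mul_neg, mul_one]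

theorem sv_one (hV : Nat.card D.V ∣ 2) : sv D (oneChar : IrrCharacter G) = -((p : ℤ) - 1) := by
  have h := sum_singular D hV (oneChar : IrrCharacter G)
  simp only [oneChar_apply, Finset.sum_const, nsmul_eq_mul, mul_one, Finset.card_erase_of_mem (Finset.mem_univ _),
    Finset.card_univ, ZMod.card] at h
  rw [Nat.cast_sub (Fact.out : p.Prime).one_le, Nat.cast_one] at h
  apply Int.cast_injective (α := ℂ)
  push_cast
  linear_combination h

theorem sv_eq_S (hV : Nat.card D.V ∣ 2) {M : Ideal AlgInt} (hM : IsPModular p M) {χ : IrrCharacter G}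
    {φ : IrrCharacter D.V} (h : χ ∈ D.blk φ) : sv D χ = D.S χ φ := by
  rw [sv, Finset.sum_eq_single φ (fun ψ _ hψ => D.S_eq_zero_of_blk hM h (by
    rw [orb_eq D hV, Finset.mem_singleton]; exact hψ)) (by simp)]

/-- A unit: a set of algebraically conjugate constituents. -/
def IsUnitSet (hM : ∃ M : Ideal AlgInt, IsPModular p M) (χ : IrrCharacter G) (s : Finset (IrrCharacter G)) : Prop :=
  χ ∈ s ∧ (∀ ψ ∈ s, (∃ u, ψ = D.tw u χ) ∧ sv D ψ = sv D χ ∧ charDegree (ψ : G → ℂ) = charDegree (χ : G → ℂ)) ∧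
    (∀ u ψ, D.tw u ψ ∈ s → ψ ∈ s) ∧ (s.card : ℤ) * sv D χ = (p : ℤ) - 1 ∧
    (s.card = 1 ∨ ∃ φ, ∃ F : D.Family φ, (∀ ψ, ψ ∈ s ↔ ψ ∈ Set.range F.θ) ∧ F.ε = 1 ∧ s.card = (D.U φ).index)

theorem tw_injective (u : (ZMod p)ˣ) : Function.Injective (D.tw u) := by
  intro χ ψ h
  refine Subtype.ext (funext fun g => ?_)
  obtain ⟨m, hm⟩ := exists_pow_eq_self_of_coprime (x := g)
    ((D.tk_coprime u).coprime_dvd_right (orderOf_dvd_natCard g))
  have := congrFun (congrArg Subtype.val h) (g ^ m)
  rw [D.tw_apply, D.tw_apply, ← pow_mul, mul_comm, pow_mul, hm] at this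
  exact this

theorem exists_unit (hV : Nat.card D.V ∣ 2) (hM : ∃ M : Ideal AlgInt, IsPModular p M) (χ : IrrCharacter G)
    (hpos : 0 < sv D χ) : ∃ s, IsUnitSet D hM χ s := by
  classical
  obtain ⟨M, hMM⟩ := hM
  obtain ⟨φ, hblk⟩ : ∃ φ, χ ∈ D.blk φ := by
    by_contra hc
    push Not at hc
    have : sv D χ = 0 := Finset.sum_eq_zero fun ψ _ => Finset.sum_eq_zero fun j _ => D.zero_of_not_blk hc ψ j
    omega
  obtain ⟨F⟩ := D.exists_family hMM φ
  have hSv := sv_eq_S D hV hMM hblk
  by_cases hF : χ ∈ Set.range F.θ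
  · obtain ⟨q, rfl⟩ := hF
    have hS : sv D (F.θ q) = F.ε * Nat.card (D.U φ) := hSv.trans (D.S_theta F q)
    have hε : F.ε = 1 := by
      rcases F.sign with h | h
      · exact h
      · rw [hS, h] at hpos; omega
    refine ⟨Finset.univ.image F.θ, Finset.mem_image_of_mem _ (Finset.mem_univ q), fun ψ hψ => ?_, fun u ψ hψ => ?_,
      ?_, Or.inr ⟨φ, F, fun ψ => ⟨fun hψ => ?_, fun ⟨q', h⟩ => h ▸ Finset.mem_image_of_mem _ (Finset.mem_univ q')⟩,
        hε, ?_⟩⟩
    · obtain ⟨q', -, rfl⟩ := Finset.mem_image.1 hψ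
      obtain ⟨u, hu⟩ := D.cls_surj φ (q' * q⁻¹)
      refine ⟨⟨u, ?_⟩, ?_, ?_⟩
      · rw [F.tw_eq, hu, inv_mul_cancel_right]
      · rw [sv_eq_S D hV hMM (D.theta_mem_blk F q'), D.S_theta, hS]
      · have h1 := D.theta_regular F q' (g := 1) (by simp [(Fact.out : p.Prime).ne_one])
        have h2 := D.theta_regular F q (g := 1) (by simp [(Fact.out : p.Prime).ne_one])
        rw [apply_one (isCharacter_of_irr (F.θ q').2), apply_one (isCharacter_of_irr (F.θ 1).2)] at h1
        rw [apply_one (isCharacter_of_irr (F.θ q).2), apply_one (isCharacter_of_irr (F.θ 1).2)] at h2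
        exact_mod_cast h1.trans h2.symm
    · obtain ⟨q', -, hq'⟩ := Finset.mem_image.1 hψ
      refine Finset.mem_image.2 ⟨(D.cls φ u)⁻¹ * q', Finset.mem_univ _, tw_injective D u ?_⟩
      rw [F.tw_eq, mul_inv_cancel_left]
      exact hq'
    · rw [Finset.card_image_of_injective _ F.inj, Finset.card_univ, D.card_Idx, hS, hε, one_mul]
      have h := D.card_U_mul_index φ
      have hp1 := (Fact.out : p.Prime).one_le
      rw [← Nat.cast_mul, mul_comm, h, Nat.cast_sub hp1, Nat.cast_one]
    · obtain ⟨q', -, h⟩ := Finset.mem_image.1 hψ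
      exact ⟨q', h⟩
    · rw [Finset.card_image_of_injective _ F.inj, Finset.card_univ, D.card_Idx]
  · have hrest : χ ∈ D.rest F := ⟨hblk, hF⟩
    have hfix : ∀ u, D.tw u χ = χ := by
      intro u
      refine D.ext_of_d (fun g hg => D.tw_regular u χ hg) fun j ψ => ?_
      by_cases hj : j = 0
      · subst hj; rw [D.d_zero, D.d_zero]
      obtain ⟨i, rfl⟩ : ∃ i, j = (u : ZMod p) * i := ⟨(u : ZMod p)⁻¹ * j, by rw [mul_inv_cancel_left₀ u.ne_zero]⟩
      rw [D.d_tw]
      have hi : i ≠ 0 := fun h => hj (by rw [h, mul_zero])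
      by_cases hψ : ψ ∈ D.orb φ
      · exact D.const_orb (F.const χ hF) hψ (Units.mk0 i hi) (u * Units.mk0 i hi)
      · rw [D.d_eq_zero_of_blk hMM hblk hψ, D.d_eq_zero_of_blk hMM hblk hψ]
    have hS : sv D χ = ((p : ℤ) - 1) * D.d χ 1 φ := hSv.trans (D.S_rest F hrest)
    refine ⟨{χ}, Finset.mem_singleton_self χ, fun ψ hψ => ?_, fun u ψ hψ => ?_, ?_, Or.inl (Finset.card_singleton χ)⟩
    · rw [Finset.mem_singleton.1 hψ]
      exact ⟨⟨1, (hfix 1).symm⟩, rfl, rfl⟩
    · rw [Finset.mem_singleton] at hψ ⊢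
      exact tw_injective D u (hψ.trans (hfix u).symm)
    · rw [Finset.card_singleton, Nat.cast_one, one_mul, hS]
      rcases D.rest_d hMM F hrest with h | h
      · rw [h, mul_one]
      · exfalso
        rw [hS, h] at hpos
        have := (Fact.out : p.Prime).one_le
        omega

theorem sv_le (hV : Nat.card D.V ∣ 2) (hM : ∃ M : Ideal AlgInt, IsPModular p M) (χ : IrrCharacter G)
    (hpos : 0 < sv D χ) : sv D χ ≤ (p : ℤ) - 1 := by
  obtain ⟨s, hs, -, -, hcard, -⟩ := exists_unit D hV hM χ hpos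
  have h1 : (1 : ℤ) ≤ s.card := by exact_mod_cast Finset.card_pos.2 ⟨χ, hs⟩
  nlinarith

end CfsgLib.WielandtTwoP
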