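import Mathlib
import Cfsg.Agent.WielandtTwoP.Units

/-!
The three possible decompositions of the permutation character.
-/

set_option autoImplicit false
set_option linter.unusedSectionVars false
set_option linter.style.haveILetI false

namespace CfsgLib.WielandtTwoP

open Cfsg CfsgLib.CharBasics CfsgLib.DefectOne CfsgLib.PermChar MulAction
open scoped ComplexConjugate

universe u

variable {G : Type u} [Group G] [Fintype G] {p : ℕ} [Fact p.Prime] (D : Data G p)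
  {Ω : Type*} [Fintype Ω] [MulAction G Ω] [IsPretransitive G Ω]

theorem smul_of_pow (g : G) {ω : Ω} (h : g • ω = ω) (n : ℕ) : g ^ n • ω = ω := by
  induction n with
  | zero => simp
  | succ n ih => rw [pow_succ, mul_smul, h, ih]

theorem piChar_pow {k : ℕ} (hk : k.Coprime (Nat.card G)) (g : G) : piChar G Ω (g ^ k) = piChar G Ω g := by
  simp only [piChar]
  congr 1
  refine Nat.card_congr (Equiv.subtypeEquivRight fun ω => ?_)
  rw [mem_fixedBy, mem_fixedBy]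
  refine ⟨fun h => ?_, fun h => smul_of_pow g h k⟩
  obtain ⟨m, hm⟩ := exists_pow_eq_self_of_coprime (x := g) (hk.coprime_dvd_right (orderOf_dvd_natCard g))
  have := smul_of_pow (g ^ k) h m
  rwa [hm] at this

theorem inner_pow {k : ℕ} (hk : k.Coprime (Nat.card G)) (χ : G → ℂ) :
    classInner (piChar G Ω) (fun g => χ (g ^ k)) = classInner (piChar G Ω) χ := by
  rw [classInner_eq, classInner_eq]
  congr 1
  refine Fintype.sum_equiv (powCoprime ((Nat.coprime_comm).1 hk)) _ _ fun g => ?_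
  show _ = piChar G Ω (g ^ k) * conj (χ (g ^ k))
  rw [piChar_pow hk]

/-- The multiplicity. -/
noncomputable def mlt (Ω : Type*) [Fintype Ω] [MulAction G Ω] [IsPretransitive G Ω] (χ : IrrCharacter G) : ℕ :=
  Classical.choose (classInner_character_nat (isCharacter_piChar (G := G) (Ω := Ω)) χ)

theorem mlt_spec (χ : IrrCharacter G) : classInner (piChar G Ω) (χ : G → ℂ) = (mlt Ω χ : ℂ) :=
  Classical.choose_spec (classInner_character_nat (isCharacter_piChar (G := G) (Ω := Ω)) χ)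

theorem mlt_tw (u : (ZMod p)ˣ) (χ : IrrCharacter G) : mlt Ω (D.tw u χ) = mlt Ω χ := by
  have h := inner_pow (Ω := Ω) (D.tk_coprime u) (χ : G → ℂ)
  rw [mlt_spec, show (fun g => (χ : G → ℂ) (g ^ D.tk u)) = (D.tw u χ : G → ℂ) from rfl, mlt_spec] at h
  exact_mod_cast h

theorem mlt_one [Nonempty Ω] : mlt Ω (oneChar : IrrCharacter G) = 1 := by
  obtain ⟨a⟩ : Nonempty Ω := inferInstance
  have h := mlt_spec (Ω := Ω) (oneChar : IrrCharacter G)
  have h2 : classInner (piChar G Ω) (fun _ : G => (1 : ℂ)) = 1 := by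
    have hsum : ∑ g : G, piChar G Ω g = (Nat.card G : ℂ) := by
      simp only [piChar]
      rw [← Nat.cast_sum, CfsgLib.Derange.sum_fixedBy]
      haveI : Subsingleton (orbitRel.Quotient G Ω) := pretransitive_iff_subsingleton_quotient G Ω |>.1 inferInstance
      haveI : Nonempty (orbitRel.Quotient G Ω) := ⟨Quotient.mk _ a⟩
      rw [Nat.card_of_subsingleton (Quotient.mk _ a), one_mul]
    rw [classInner_one, hsum]
    exact inv_mul_cancel₀ (Nat.cast_ne_zero.2 Nat.card_pos.ne')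
  have h3 : ((mlt Ω (oneChar : IrrCharacter G) : ℕ) : ℂ) = 1 := h.symm.trans h2
  exact_mod_cast h3

theorem piChar_expand [Fintype (IrrCharacter G)] :
    piChar G Ω = ∑ χ : IrrCharacter G, (mlt Ω χ : ℂ) • (χ : G → ℂ) := by
  conv_lhs => rw [classFun_expand (isClassFunction (isCharacter_piChar (G := G) (Ω := Ω)))]
  exact Finset.sum_congr rfl fun χ _ => by rw [mlt_spec]

/-- The hypotheses used. -/
structure Setup : Prop where
  hV : Nat.card D.V ∣ 2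
  hcard : Fintype.card Ω = 2 * p
  hzero : ∀ g : G, p ∣ orderOf g → piChar G Ω g = 0
  hlin : ∀ χ : IrrCharacter G, χ ≠ oneChar → mlt Ω χ ≠ 0 → 2 ≤ charDegree (χ : G → ℂ)
  hp3 : 3 ≤ p

theorem piChar_one : piChar G Ω 1 = (Fintype.card Ω : ℂ) := by
  simp only [piChar, fixedBy_one_eq_univ]
  rw [Nat.card_univ, Nat.card_eq_fintype_card]

theorem eq_of_mult [Fintype (IrrCharacter G)] [Nonempty Ω] (T : Finset (IrrCharacter G))
    (hT : ∀ χ ∈ T, mlt Ω χ = 1) (hout : ∀ χ, χ ∉ T → mlt Ω χ = 0) :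
    piChar G Ω = ∑ χ ∈ T, (χ : G → ℂ) := by
  rw [piChar_expand, ← Finset.sum_subset (Finset.subset_univ T) (fun χ _ h => by
    rw [hout χ h, Nat.cast_zero, zero_smul])]
  exact Finset.sum_congr rfl fun χ h => by rw [hT χ h, Nat.cast_one, one_smul]

/-- The possible shapes of the permutation character. -/
theorem decompose [Nonempty Ω] (h : Setup D (Ω := Ω)) :
    ∃ χ₀ : IrrCharacter G, χ₀ ≠ oneChar ∧ mlt Ω χ₀ = 1 ∧
      ((∀ χ, χ ≠ oneChar → χ ≠ χ₀ → mlt Ω χ = 0) ∧ charDegree (χ₀ : G → ℂ) = 2 * p - 1 ∨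
      ∃ s : Finset (IrrCharacter G), oneChar ∉ s ∧ χ₀ ∉ s ∧ (∀ χ ∈ s, mlt Ω χ = 1) ∧
        (∀ χ, χ ≠ oneChar → χ ≠ χ₀ → χ ∉ s → mlt Ω χ = 0) ∧ charDegree (χ₀ : G → ℂ) = p ∧
        ((∃ χ₁, s = {χ₁} ∧ charDegree (χ₁ : G → ℂ) = p - 1) ∨
          ∃ φ, ∃ F : D.Family φ, F.ε = 1 ∧ 2 ≤ (D.U φ).index ∧ (∀ ψ, ψ ∈ s ↔ ψ ∈ Set.range F.θ) ∧
            ∀ q, (D.U φ).index * charDegree (F.θ q : G → ℂ) = p - 1)) := by
  classical
  haveI : Fintype (IrrCharacter G) := Fintype.ofFinite _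
  obtain ⟨hV, hcard, hzero, hlin, hp3⟩ := h
  have hM : ∃ M : Ideal AlgInt, IsPModular p M := CfsgLib.Blocks.exists_modular (Fact.out : p.Prime)
  have hp : p.Prime := Fact.out
  have hdeg : ∑ χ : IrrCharacter G, (mlt Ω χ : ℤ) * (charDegree (χ : G → ℂ) : ℤ) = 2 * p := by
    have h1 := congrFun (piChar_expand (G := G) (Ω := Ω)) 1
    rw [piChar_one, hcard, Finset.sum_apply] at h1
    simp only [Pi.smul_apply, smul_eq_mul, apply_one (isCharacter_of_irr (Subtype.property _))] at h1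
    exact_mod_cast h1.symm
  have hsv : ∑ χ : IrrCharacter G, (mlt Ω χ : ℤ) * sv D χ = 0 := by
    apply Int.cast_injective (α := ℂ)
    push_cast
    rw [← neg_eq_zero, ← Finset.sum_neg_distrib, Finset.sum_congr rfl fun χ _ => by
      rw [← mul_neg, ← sum_singular D hV χ], Finset.sum_congr rfl fun χ _ => Finset.mul_sum _ _ _, Finset.sum_comm]
    refine Finset.sum_eq_zero fun i hi => ?_
    have h1 := congrFun (piChar_expand (G := G) (Ω := Ω)) (D.pt (i, 1))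
    rw [hzero _ (D.dvd_orderOf_pt (Finset.mem_erase.1 hi).1 1), Finset.sum_apply] at h1
    exact h1.symm
  -- the nontrivial constituents
  set R := (Finset.univ : Finset (IrrCharacter G)).erase oneChar with hR
  have hone : charDegree (oneChar : IrrCharacter G).1 = 1 := by
    have := apply_one (isCharacter_of_irr (oneChar : IrrCharacter G).2)
    rw [oneChar_apply] at this
    exact_mod_cast this.symm
  have hdegR : ∑ χ ∈ R, (mlt Ω χ : ℤ) * (charDegree (χ : G → ℂ) : ℤ) = 2 * p - 1 := by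
    rw [← Finset.sum_erase_add _ _ (Finset.mem_univ (oneChar : IrrCharacter G)), mlt_one, hone] at hdeg
    push_cast at hdeg
    rw [hR]
    linarith
  have hsvR : ∑ χ ∈ R, (mlt Ω χ : ℤ) * sv D χ = p - 1 := by
    rw [← Finset.sum_erase_add _ _ (Finset.mem_univ (oneChar : IrrCharacter G)), mlt_one, sv_one D hV] at hsv
    push_cast at hsv
    rw [hR]
    linarith
  have hexc : ∑ χ ∈ R, (mlt Ω χ : ℤ) * ((charDegree (χ : G → ℂ) : ℤ) - sv D χ) = p := by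
    simp only [mul_sub, Finset.sum_sub_distrib, hdegR, hsvR]
    ring
  have hdpos : ∀ χ : IrrCharacter G, 0 < charDegree (χ : G → ℂ) := fun χ => charDegree_pos χ.2
  have hterm : ∀ χ : IrrCharacter G, (charDegree (χ : G → ℂ) : ℤ) = sv D χ ∧ 0 < sv D χ ∨
      (p : ℤ) ≤ (charDegree (χ : G → ℂ) : ℤ) - sv D χ := by
    intro χ
    have hd := dvd_deg_sub_sv D hV χ
    have h0 := hdpos χ
    by_cases hS : 0 < sv D χ
    · have hle := sv_le D hV hM χ hS
      obtain ⟨k, hk⟩ := hd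
      have hp0 : (0 : ℤ) < p := by exact_mod_cast hp.pos
      rcases lt_trichotomy k 0 with hk0 | rfl | hk0
      · exfalso; nlinarith
      · left; exact ⟨by linarith, hS⟩
      · right; nlinarith
    · right
      exact Int.le_of_dvd (by omega) hd
  have hnn : ∀ χ : IrrCharacter G, 0 ≤ (charDegree (χ : G → ℂ) : ℤ) - sv D χ := fun χ => by
    rcases hterm χ with ⟨h1, -⟩ | h1
    · omega
    · linarith [(Int.natCast_nonneg p)]
  obtain ⟨χ₀, hχ₀R, hχ₀m, hχ₀d⟩ : ∃ χ₀ ∈ R, mlt Ω χ₀ ≠ 0 ∧ (p : ℤ) ≤ (charDegree (χ₀ : G → ℂ) : ℤ) - sv D χ₀ := by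
    by_contra hc
    push Not at hc
    rw [Finset.sum_eq_zero] at hexc
    · have := hp.pos; omega
    intro χ hχ
    by_cases hm : mlt Ω χ = 0
    · rw [hm, Nat.cast_zero, zero_mul]
    rcases hterm χ with ⟨h1, -⟩ | h1
    · rw [h1, sub_self, mul_zero]
    · exact absurd h1 (not_le.2 (hc χ hχ hm))
  have hχ₀1 : χ₀ ≠ oneChar := (Finset.mem_erase.1 hχ₀R).1
  rw [← Finset.sum_erase_add _ _ hχ₀R] at hexc
  have hrest0 : 0 ≤ ∑ χ ∈ R.erase χ₀, (mlt Ω χ : ℤ) * ((charDegree (χ : G → ℂ) : ℤ) - sv D χ) :=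
    Finset.sum_nonneg fun χ _ => mul_nonneg (Int.natCast_nonneg _) (hnn χ)
  have hm1 : (1 : ℤ) ≤ mlt Ω χ₀ := by exact_mod_cast Nat.one_le_iff_ne_zero.2 hχ₀m
  have hp0 : (0 : ℤ) < p := by exact_mod_cast hp.pos
  have hc0 : (mlt Ω χ₀ : ℤ) = 1 := by nlinarith
  rw [hc0, one_mul] at hexc
  have hd0 : (charDegree (χ₀ : G → ℂ) : ℤ) = sv D χ₀ + p := by linarith
  have hothers : ∀ χ ∈ R.erase χ₀, mlt Ω χ ≠ 0 → (charDegree (χ : G → ℂ) : ℤ) = sv D χ ∧ 0 < sv D χ := by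
    intro χ hχ hm
    rcases hterm χ with h1 | h1
    · exact h1
    exfalso
    have h2 : ∑ ψ ∈ R.erase χ₀, (mlt Ω ψ : ℤ) * ((charDegree (ψ : G → ℂ) : ℤ) - sv D ψ) = 0 := by linarith
    have h3 := (Finset.sum_eq_zero_iff_of_nonneg fun ψ _ => mul_nonneg (Int.natCast_nonneg _) (hnn ψ)).1 h2 χ hχ
    rcases mul_eq_zero.1 h3 with h4 | h4
    · exact hm (by exact_mod_cast h4)
    · linarith
  have hmlt0 : mlt Ω χ₀ = 1 := by exact_mod_cast hc0
  refine ⟨χ₀, hχ₀1, hmlt0, ?_⟩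
  by_cases hex : ∃ χ₁ ∈ R.erase χ₀, mlt Ω χ₁ ≠ 0
  swap
  · left
    push Not at hex
    have hall : ∀ χ, χ ≠ oneChar → χ ≠ χ₀ → mlt Ω χ = 0 := fun χ h1 h2 =>
      hex χ (Finset.mem_erase.2 ⟨h2, Finset.mem_erase.2 ⟨h1, Finset.mem_univ _⟩⟩)
    refine ⟨hall, ?_⟩
    rw [Finset.sum_eq_single_of_mem χ₀ hχ₀R (fun χ hχ hne => by
      rw [hall χ (Finset.mem_erase.1 hχ).1 hne, Nat.cast_zero, zero_mul]), hc0, one_mul] at hdegR
    omega
  right
  obtain ⟨χ₁, hχ₁R, hχ₁m⟩ := hex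
  obtain ⟨hd1, hpos1⟩ := hothers χ₁ hχ₁R hχ₁m
  obtain ⟨s, hs1, hsmem, hsclosed, hscard, hsshape⟩ := exists_unit D hV hM χ₁ hpos1
  have hsm : ∀ ψ ∈ s, mlt Ω ψ = mlt Ω χ₁ := fun ψ hψ => by
    obtain ⟨⟨u, rfl⟩, -, -⟩ := hsmem ψ hψ
    exact mlt_tw D u χ₁
  have hs_one : (oneChar : IrrCharacter G) ∉ s := fun hmem => by
    obtain ⟨-, h2, -⟩ := hsmem _ hmem
    rw [sv_one D hV] at h2
    have : (3 : ℤ) ≤ p := by exact_mod_cast hp3
    omega
  have hs_zero : χ₀ ∉ s := fun hmem => by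
    obtain ⟨-, h2, h3⟩ := hsmem _ hmem
    rw [h2, h3, hd1] at hd0
    omega
  have hsR : s ⊆ R.erase χ₀ := fun ψ hψ => Finset.mem_erase.2 ⟨fun e => hs_zero (e ▸ hψ),
    Finset.mem_erase.2 ⟨fun e => hs_one (e ▸ hψ), Finset.mem_univ _⟩⟩
  have hssum : ∑ ψ ∈ s, (mlt Ω ψ : ℤ) * sv D ψ = (mlt Ω χ₁ : ℤ) * ((p : ℤ) - 1) := by
    rw [Finset.sum_congr rfl (g := fun _ => (mlt Ω χ₁ : ℤ) * sv D χ₁) fun ψ hψ => by
      rw [hsm ψ hψ, (hsmem ψ hψ).2.1], Finset.sum_const, nsmul_eq_mul, mul_left_comm, hscard]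
  rw [← Finset.sum_erase_add _ _ hχ₀R, ← Finset.sum_sdiff hsR, hssum, hc0, one_mul] at hsvR
  have hT0 : ∀ ψ ∈ R.erase χ₀ \ s, 0 ≤ (mlt Ω ψ : ℤ) * sv D ψ := fun ψ hψ => by
    by_cases hm : mlt Ω ψ = 0
    · rw [hm, Nat.cast_zero, zero_mul]
    · exact mul_nonneg (Int.natCast_nonneg _) (hothers ψ (Finset.mem_sdiff.1 hψ).1 hm).2.le
  have hTsum := Finset.sum_nonneg hT0
  have hd0' : (2 : ℤ) ≤ (charDegree (χ₀ : G → ℂ) : ℤ) := by
    exact_mod_cast hlin χ₀ hχ₀1 hχ₀m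
  have hp1 : (2 : ℤ) ≤ (p : ℤ) - 1 := by
    have : (3 : ℤ) ≤ p := by exact_mod_cast hp3
    linarith
  have hc1' : (1 : ℤ) ≤ mlt Ω χ₁ := by exact_mod_cast Nat.one_le_iff_ne_zero.2 hχ₁m
  have hc1 : (mlt Ω χ₁ : ℤ) = 1 := by
    by_contra hne
    have : (2 : ℤ) ≤ mlt Ω χ₁ := by omega
    nlinarith
  rw [hc1, one_mul] at hsvR
  have hTzero : ∀ ψ ∈ R.erase χ₀ \ s, mlt Ω ψ = 0 := by
    intro ψ hψ
    by_contra hm
    obtain ⟨hd2, hpos2⟩ := hothers ψ (Finset.mem_sdiff.1 hψ).1 hm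
    obtain ⟨s', hs1', hsmem', -, hscard', -⟩ := exists_unit D hV hM ψ hpos2
    have hdisj : s' ⊆ R.erase χ₀ \ s := by
      intro η hη
      obtain ⟨⟨u, hu⟩, hη2, hη3⟩ := hsmem' η hη
      refine Finset.mem_sdiff.2 ⟨Finset.mem_erase.2 ⟨?_, Finset.mem_erase.2 ⟨?_, Finset.mem_univ _⟩⟩, ?_⟩
      · intro e
        rw [e] at hη2 hη3
        rw [hη2, hη3, hd2] at hd0
        omega
      · intro e
        rw [e, sv_one D hV] at hη2
        omega
      · intro e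
        rw [hu] at e
        exact (Finset.mem_sdiff.1 hψ).2 (hsclosed u ψ e)
    have hm2 : (1 : ℤ) ≤ mlt Ω ψ := by exact_mod_cast Nat.one_le_iff_ne_zero.2 hm
    have h5 : (p : ℤ) - 1 ≤ ∑ η ∈ R.erase χ₀ \ s, (mlt Ω η : ℤ) * sv D η := by
      refine le_trans ?_ (Finset.sum_le_sum_of_subset_of_nonneg hdisj fun η hη _ => hT0 η hη)
      rw [Finset.sum_congr rfl (g := fun _ => (mlt Ω ψ : ℤ) * sv D ψ) fun η hη => by
        obtain ⟨⟨u, hu⟩, hη2, -⟩ := hsmem' η hη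
        rw [hη2, hu, mlt_tw D u ψ], Finset.sum_const, nsmul_eq_mul, mul_left_comm, hscard']
      nlinarith
    nlinarith
  rw [Finset.sum_eq_zero (fun ψ hψ => by rw [hTzero ψ hψ, Nat.cast_zero, zero_mul])] at hsvR
  have hmlt1 : mlt Ω χ₁ = 1 := by exact_mod_cast hc1
  refine ⟨s, hs_one, hs_zero, fun ψ hψ => (hsm ψ hψ).trans hmlt1, fun χ h1 h2 h3 => hTzero χ (Finset.mem_sdiff.2
    ⟨Finset.mem_erase.2 ⟨h2, Finset.mem_erase.2 ⟨h1, Finset.mem_univ _⟩⟩, h3⟩), by omega, ?_⟩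
  by_cases hs : s.card = 1
  · left
    obtain ⟨χ', rfl⟩ := Finset.card_eq_one.1 hs
    rw [Finset.mem_singleton] at hs1
    subst hs1
    refine ⟨χ₁, rfl, ?_⟩
    rw [hs, Nat.cast_one, one_mul] at hscard
    omega
  · right
    obtain ⟨φ, F, hsF, hε, hsi⟩ := hsshape.resolve_left hs
    refine ⟨φ, F, hε, ?_, hsF, fun q => ?_⟩
    · have : 0 < (D.U φ).index := Nat.pos_of_ne_zero Subgroup.index_ne_zero_of_finite
      omega
    · have hq := (hsF (F.θ q)).2 ⟨q, rfl⟩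
      rw [(hsmem _ hq).2.2]
      apply Nat.cast_injective (R := ℤ)
      rw [Nat.cast_mul, ← hsi, hd1, hscard]
      omega

end CfsgLib.WielandtTwoP
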