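import Mathlib
import Cfsg.Agent.PermChar.Basic

/-!
Spherical functions of a multiplicity free permutation character.
-/

set_option autoImplicit false
set_option linter.unusedSectionVars false
set_option linter.style.haveILetI false

namespace CfsgLib.WielandtTwoP

open Cfsg CfsgLib.CharBasics CfsgLib.PermChar MulAction
open scoped ComplexConjugate

universe u

variable {G : Type u} [Group G] [Fintype G] {Ω : Type*} [Fintype Ω] [MulAction G Ω]

/-- The point stabiliser is finite. -/
noncomputable instance (priority := high) fintypeStab (a : Ω) : Fintype (stabilizer G a) := Fintype.ofFinite _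

/-- The average of `χ` over the coset `G_a g`. -/
noncomputable def phi (a : Ω) (χ : G → ℂ) (g : G) : ℂ :=
  (Nat.card (stabilizer G a) : ℂ)⁻¹ * ∑ h : stabilizer G a, χ ((h : G) * g)

theorem phi_mul_left (a : Ω) (χ : G → ℂ) {k : G} (hk : k ∈ stabilizer G a) (g : G) :
    phi a χ (k * g) = phi a χ g := by
  classical
  simp only [phi]
  congr 1
  refine Fintype.sum_equiv (Equiv.mulRight (⟨k, hk⟩ : stabilizer G a)) _ _ fun h => ?_
  simp [mul_assoc]

theorem phi_mul_right (a : Ω) {χ : G → ℂ} (hχ : IsClassFunction G χ) {k : G} (hk : k ∈ stabilizer G a) (g : G) :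
    phi a χ (g * k) = phi a χ g := by
  classical
  simp only [phi]
  congr 1
  refine Fintype.sum_equiv (Equiv.mulLeft (⟨k, hk⟩ : stabilizer G a)) _ _ fun h => ?_
  simp only [Equiv.coe_mulLeft, Subgroup.coe_mul]
  rw [← hχ ((h : G) * (g * k)) k]
  congr 1
  group

variable [IsPretransitive G Ω]

/-- The function on the points. -/
noncomputable def sph (a : Ω) (χ : G → ℂ) (b : Ω) : ℂ :=
  phi a χ (Classical.choose (exists_smul_eq G a b))

theorem sph_smul (a : Ω) {χ : G → ℂ} (hχ : IsClassFunction G χ) (g : G) : sph a χ (g • a) = phi a χ g := by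
  set g' := Classical.choose (exists_smul_eq G a (g • a)) with hg'
  have h : g' • a = g • a := Classical.choose_spec (exists_smul_eq G a (g • a))
  have hk : g⁻¹ * g' ∈ stabilizer G a := by rw [mem_stabilizer_iff, mul_smul, h, inv_smul_smul]
  rw [sph, ← hg', show g' = g * (g⁻¹ * g') by group, phi_mul_right a hχ hk]

theorem sph_stab (a : Ω) {χ : G → ℂ} (hχ : IsClassFunction G χ) {k : G} (hk : k ∈ stabilizer G a) (b : Ω) :
    sph a χ (k • b) = sph a χ b := by
  obtain ⟨g, rfl⟩ := exists_smul_eq G a b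
  rw [← mul_smul, sph_smul a hχ, sph_smul a hχ, phi_mul_left a χ hk]

theorem phi_one_arg (a : Ω) {χ : Cfsg.IrrCharacter G} {c : ℕ}
    (hc : classInner (piChar G Ω) (χ : G → ℂ) = c) : phi a (χ : G → ℂ) 1 = c := by
  classical
  have hπe : piChar G Ω = indFun (stabilizer G a) (fun _ => 1) := Cfsg.Agent.S0190.result Ω a
  have h2 := classInner_indFun (stabilizer G a) (fun _ => (1 : ℂ)) (isClassFunction (isCharacter_of_irr χ.2))
  rw [← hπe, hc, classInner_eq] at h2
  have h3 := congrArg conj h2
  simp only [map_mul, map_inv₀, Complex.conj_natCast, map_sum, one_mul, Complex.conj_conj] at h3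
  simp only [phi, mul_one]
  exact h3.symm

theorem card_stab_mul (a : Ω) : (Nat.card (stabilizer G a) : ℂ) * (Fintype.card Ω : ℂ) = Nat.card G := by
  rw [← Nat.cast_mul, ← Nat.card_eq_fintype_card, ← index_stabilizer_of_transitive G a, Subgroup.card_mul_index]

theorem sum_smul_point (a : Ω) (f : Ω → ℂ) :
    ∑ x : G, f (x • a) = (Nat.card (stabilizer G a) : ℂ) * ∑ b : Ω, f b := by
  classical
  rw [← Finset.sum_fiberwise_of_maps_to (s := Finset.univ) (t := Finset.univ) (g := fun x : G => x • a)
    (fun _ _ => Finset.mem_univ _), Finset.mul_sum]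
  refine Finset.sum_congr rfl fun b _ => ?_
  rw [Finset.sum_congr rfl (g := fun _ => f b) fun x hx => by rw [(Finset.mem_filter.1 hx).2], Finset.sum_const,
    nsmul_eq_mul]
  congr 2
  obtain ⟨g, rfl⟩ := exists_smul_eq G a b
  rw [Nat.card_eq_fintype_card, ← Finset.card_univ]
  refine Finset.card_bij (fun x hx => (⟨g⁻¹ * x, by
    rw [mem_stabilizer_iff, mul_smul, (Finset.mem_filter.1 hx).2, inv_smul_smul]⟩ : stabilizer G a))
    (fun _ _ => Finset.mem_univ _) (fun x _ y _ h => mul_left_cancel (congrArg Subtype.val h)) fun k _ => ?_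
  exact ⟨g * k, Finset.mem_filter.2 ⟨Finset.mem_univ _, by rw [mul_smul, k.2]⟩, Subtype.ext (by simp)⟩

theorem sum_phi_conv (a : Ω) (χ ψ : Cfsg.IrrCharacter G) [Decidable (χ = ψ)] (g : G) :
    (ψ : G → ℂ) 1 * ∑ x : G, phi a (χ : G → ℂ) (g * x) * conj (phi a (ψ : G → ℂ) x) =
      if χ = ψ then (Nat.card G : ℂ) * phi a (ψ : G → ℂ) g else 0 := by
  classical
  set K : ℂ := (Nat.card (stabilizer G a) : ℂ) with hK
  have hK0 : K ≠ 0 := Nat.cast_ne_zero.2 Nat.card_pos.ne'
  have hψc := isCharacter_of_irr ψ.2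
  have key : ∀ h k : stabilizer G a, (ψ : G → ℂ) 1 *
      ∑ x : G, (χ : G → ℂ) ((h : G) * (g * x)) * conj ((ψ : G → ℂ) ((k : G) * x)) =
      if χ = ψ then (Nat.card G : ℂ) * (ψ : G → ℂ) ((h : G) * (g * (k : G)⁻¹)) else 0 := by
    intro h k
    rw [← conv_irr χ ψ]
    congr 1
    refine Fintype.sum_equiv (Equiv.mulLeft ((h : G) * g)) _ _ fun x => ?_
    simp only [Equiv.coe_mulLeft]
    rw [← apply_inv hψc, mul_assoc (h : G) g x]
    congr 2
    group
  have e : ∀ x : G, phi a (χ : G → ℂ) (g * x) * conj (phi a (ψ : G → ℂ) x) =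
      K⁻¹ * K⁻¹ * ∑ h : stabilizer G a, ∑ k : stabilizer G a,
        (χ : G → ℂ) ((h : G) * (g * x)) * conj ((ψ : G → ℂ) ((k : G) * x)) := fun x => by
    simp only [phi, map_mul, map_inv₀, map_sum, hK, Complex.conj_natCast, ← Finset.sum_mul_sum]
    ring_nf
  rw [Finset.sum_congr rfl fun x _ => e x, ← Finset.mul_sum, Finset.sum_comm, mul_left_comm, Finset.mul_sum]
  have e1 : ∀ h : stabilizer G a, (ψ : G → ℂ) 1 *
      ∑ x : G, ∑ k : stabilizer G a, (χ : G → ℂ) ((h : G) * (g * x)) * conj ((ψ : G → ℂ) ((k : G) * x)) =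
      ∑ k : stabilizer G a,
        if χ = ψ then (Nat.card G : ℂ) * (ψ : G → ℂ) ((h : G) * (g * (k : G)⁻¹)) else 0 := fun h => by
    rw [Finset.sum_comm, Finset.mul_sum]
    exact Finset.sum_congr rfl fun k _ => key h k
  rw [Finset.sum_congr rfl fun h _ => e1 h]
  split_ifs with hχψ
  · rw [Finset.sum_comm]
    have e2 : ∀ k : stabilizer G a, ∑ h : stabilizer G a, (Nat.card G : ℂ) * (ψ : G → ℂ) ((h : G) * (g * (k : G)⁻¹)) =
        (Nat.card G : ℂ) * (K * phi a (ψ : G → ℂ) g) := fun k => by
      rw [← Finset.mul_sum, ← phi_mul_right a (isClassFunction hψc) (Subgroup.inv_mem _ k.2) g]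
      simp only [phi, ← hK]
      rw [mul_inv_cancel_left₀ hK0]
    rw [Finset.sum_congr rfl fun k _ => e2 k, Finset.sum_const, Finset.card_univ, ← Nat.card_eq_fintype_card,
      nsmul_eq_mul, ← hK]
    field_simp
  · simp

theorem sum_sph_conv (a : Ω) (χ ψ : Cfsg.IrrCharacter G) [Decidable (χ = ψ)] (g : G) :
    (ψ : G → ℂ) 1 * ∑ b : Ω, sph a (χ : G → ℂ) (g • b) * conj (sph a (ψ : G → ℂ) b) =
      if χ = ψ then (Fintype.card Ω : ℂ) * phi a (ψ : G → ℂ) g else 0 := by
  have hK0 : (Nat.card (stabilizer G a) : ℂ) ≠ 0 := Nat.cast_ne_zero.2 Nat.card_pos.ne'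
  have h := sum_phi_conv a χ ψ g
  rw [← Finset.sum_congr rfl (fun x _ => show sph a (χ : G → ℂ) (g • (x • a)) * conj (sph a (ψ : G → ℂ) (x • a)) =
    phi a (χ : G → ℂ) (g * x) * conj (phi a (ψ : G → ℂ) x) by
      rw [← mul_smul, sph_smul a (isClassFunction (isCharacter_of_irr χ.2)),
        sph_smul a (isClassFunction (isCharacter_of_irr ψ.2))]),
    sum_smul_point a (fun b => sph a (χ : G → ℂ) (g • b) * conj (sph a (ψ : G → ℂ) b)), mul_left_comm] at h
  refine mul_left_cancel₀ hK0 (h.trans ?_)
  split_ifs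
  · rw [← card_stab_mul a, mul_assoc]
  · rw [mul_zero]

/-- A multiplicity free system: as many constituents as suborbits. -/
structure Frame (a : Ω) (ι : Type*) [Fintype ι] where
  χ : ι → Cfsg.IrrCharacter G
  inj : Function.Injective χ
  mult : ∀ i, classInner (piChar G Ω) (χ i : G → ℂ) = 1
  card : Fintype.card ι = Nat.card (orbitRel.Quotient (stabilizer G a) Ω)

variable {ι : Type*} [Fintype ι] {a : Ω}

/-- The suborbit of a point. -/
noncomputable def sub (a : Ω) (b : Ω) : Finset Ω := by
  classical exact Finset.univ.filter fun c => Quotient.mk (orbitRel (stabilizer G a) Ω) c =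
    Quotient.mk (orbitRel (stabilizer G a) Ω) b

theorem sph_of_mem_sub {χ : G → ℂ} (hχ : IsClassFunction G χ) {b c : Ω} (h : c ∈ sub (G := G) a b) :
    sph a χ c = sph a χ b := by
  classical
  simp only [sub, Finset.mem_filter, Finset.mem_univ, true_and] at h
  obtain ⟨k, hk⟩ := orbitRel_apply.1 (Quotient.exact h)
  rw [← hk]
  exact sph_stab a hχ k.2 b

theorem self_mem_sub (b : Ω) : b ∈ sub (G := G) a b := by
  classical
  simp [sub]

theorem card_sub (b : Ω) : (sub (G := G) a b).card = Nat.card (orbit (stabilizer G a) b) := by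
  classical
  rw [Nat.card_coe_set_eq, ← Set.ncard_coe_finset]
  congr 1
  ext c
  simp only [sub, Finset.coe_filter, Finset.mem_univ, true_and, Set.mem_setOf_eq]
  rw [Quotient.eq, orbitRel_apply]

theorem sub_self : sub (G := G) a a = {a} := by
  classical
  ext c
  simp only [sub, Finset.mem_filter, Finset.mem_univ, true_and, Finset.mem_singleton]
  refine ⟨fun h => ?_, fun h => by rw [h]⟩
  obtain ⟨k, hk⟩ := orbitRel_apply.1 (Quotient.exact h)
  rw [← hk]
  exact k.2

namespace Frame

variable (F : Frame (G := G) a ι)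

/-- The value on a point. -/
noncomputable def val (i : ι) (b : Ω) : ℂ := sph a (F.χ i : G → ℂ) b

theorem val_self (i : ι) : F.val i a = 1 := by
  have h := sph_smul a (isClassFunction (isCharacter_of_irr (F.χ i).2)) (1 : G)
  rw [one_smul] at h
  rw [val, h, phi_one_arg a (c := 1) (by rw [F.mult, Nat.cast_one]), Nat.cast_one]

theorem row (i j : ι) [DecidableEq ι] :
    (F.χ j : G → ℂ) 1 * ∑ b : Ω, F.val i b * conj (F.val j b) = if i = j then (Fintype.card Ω : ℂ) else 0 := by
  classical
  have h := sum_sph_conv a (F.χ i) (F.χ j) 1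
  simp only [one_smul] at h
  rw [show (∑ b : Ω, F.val i b * conj (F.val j b)) =
    ∑ b : Ω, sph a (F.χ i : G → ℂ) b * conj (sph a (F.χ j : G → ℂ) b) from rfl, h]
  simp only [F.inj.eq_iff]
  split_ifs
  · rw [phi_one_arg a (c := 1) (by rw [F.mult, Nat.cast_one]), Nat.cast_one, mul_one]
  · rfl

/-- The column relations. -/
theorem col (b c : Ω) [Decidable (c ∈ sub (G := G) a b)] :
    ∑ i, (F.χ i : G → ℂ) 1 * ((sub (G := G) a b).card : ℂ) * conj (F.val i b) * F.val i c =
      if c ∈ sub (G := G) a b then (Fintype.card Ω : ℂ) else 0 := by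
  classical
  haveI : Fintype (orbitRel.Quotient (stabilizer G a) Ω) := Fintype.ofFinite _
  let π : Ω → orbitRel.Quotient (stabilizer G a) Ω := Quotient.mk (orbitRel (stabilizer G a) Ω)
  have hsec : ∀ q, π (Quotient.out q) = q := Quotient.out_eq
  have hsub : ∀ q, sub (G := G) a (Quotient.out q) = Finset.univ.filter fun x => π x = q := fun q => by
    have h := hsec q
    simp only [sub, π] at h ⊢
    rw [h]
  have hΩ : (Fintype.card Ω : ℂ) ≠ 0 := by
    haveI : Nonempty Ω := ⟨a⟩
    exact Nat.cast_ne_zero.2 Fintype.card_ne_zero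
  let U : Matrix ι (orbitRel.Quotient (stabilizer G a) Ω) ℂ := fun i q => F.val i (Quotient.out q)
  let W : Matrix (orbitRel.Quotient (stabilizer G a) Ω) ι ℂ := fun q j =>
    (F.χ j : G → ℂ) 1 * ((sub (G := G) a (Quotient.out q)).card : ℂ) * conj (F.val j (Quotient.out q)) /
      (Fintype.card Ω : ℂ)
  have hUW : U * W = 1 := by
    ext i j
    rw [Matrix.mul_apply, Matrix.one_apply]
    have h := F.row i j
    rw [← Finset.sum_fiberwise_of_maps_to (s := Finset.univ) (t := Finset.univ) (g := π)
      (fun _ _ => Finset.mem_univ _), Finset.mul_sum] at h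
    have e : ∀ q, U i q * W q j = ((F.χ j : G → ℂ) 1 *
        ∑ x ∈ Finset.univ.filter (fun x => π x = q), F.val i x * conj (F.val j x)) / (Fintype.card Ω : ℂ) := by
      intro q
      rw [← hsub]
      have hx : ∀ x ∈ sub (G := G) a (Quotient.out q), F.val i x * conj (F.val j x) =
          F.val i (Quotient.out q) * conj (F.val j (Quotient.out q)) := fun x hx => by
        simp only [val, sph_of_mem_sub (isClassFunction (isCharacter_of_irr (F.χ i).2)) hx,
          sph_of_mem_sub (isClassFunction (isCharacter_of_irr (F.χ j).2)) hx]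
      rw [Finset.sum_congr rfl hx, Finset.sum_const, nsmul_eq_mul]
      simp only [U, W]
      ring
    rw [Finset.sum_congr rfl fun q _ => e q, ← Finset.sum_div, h]
    split_ifs
    · rw [div_self hΩ]
    · rw [zero_div]
  have hWU : W * U = 1 :=
    (Matrix.mul_eq_one_comm_of_card_eq _ _ _ (by rw [← Nat.card_eq_fintype_card (α := orbitRel.Quotient _ _)]; exact F.card)).1 hUW
  have h := congrFun (congrFun hWU (π b)) (π c)
  rw [Matrix.mul_apply, Matrix.one_apply] at h
  have hmem : ∀ x, x ∈ sub (G := G) a x := self_mem_sub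
  have hout : ∀ (i : ι) (x : Ω), F.val i (Quotient.out (π x)) = F.val i x := fun i x => by
    refine sph_of_mem_sub (isClassFunction (isCharacter_of_irr (F.χ i).2)) ?_
    simp only [sub, Finset.mem_filter, Finset.mem_univ, true_and]
    exact hsec _
  have hsubb : sub (G := G) a (Quotient.out (π b)) = sub (G := G) a b := by
    rw [hsub]; simp only [sub, π]
  simp only [U, W, hout, hsubb, div_mul_eq_mul_div, ← Finset.sum_div] at h
  rw [div_eq_iff hΩ] at h
  rw [h]
  by_cases hc : c ∈ sub (G := G) a b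
  · have : π b = π c := by
      simp only [sub, Finset.mem_filter, Finset.mem_univ, true_and] at hc
      exact hc.symm
    rw [if_pos this, if_pos hc, one_mul]
  · rw [if_neg hc, if_neg, zero_mul]
    intro he
    exact hc (by simp only [sub, Finset.mem_filter, Finset.mem_univ, true_and]; exact he.symm)

/-- The eigenvalue. -/
noncomputable def eig (i : ι) (b : Ω) : ℂ := ((sub (G := G) a b).card : ℂ) * F.val i b

theorem sum_deg_eig {b : Ω} (hb : b ≠ a) : ∑ i, (F.χ i : G → ℂ) 1 * F.eig i b = 0 := by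
  classical
  have h := F.col b a
  rw [if_neg] at h
  · have h' := congrArg conj h
    simp only [map_sum, map_mul, Complex.conj_conj, Complex.conj_natCast, map_zero, F.val_self, map_one,
      mul_one, apply_one (isCharacter_of_irr (F.χ _).2)] at h'
    simp only [eig, apply_one (isCharacter_of_irr (F.χ _).2), ← mul_assoc]
    exact h'
  · intro hm
    simp only [sub, Finset.mem_filter, Finset.mem_univ, true_and] at hm
    have : b ∈ sub (G := G) a a := by
      simp only [sub, Finset.mem_filter, Finset.mem_univ, true_and]; exact hm.symm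
    rw [sub_self, Finset.mem_singleton] at this
    exact hb this

theorem sum_deg_normSq (b : Ω) :
    ∑ i, (F.χ i : G → ℂ) 1 * (F.eig i b * conj (F.eig i b)) =
      (Fintype.card Ω : ℂ) * (sub (G := G) a b).card := by
  classical
  have h := F.col b b
  rw [if_pos (self_mem_sub b)] at h
  rw [← h, Finset.sum_mul]
  refine Finset.sum_congr rfl fun i _ => ?_
  simp only [eig, map_mul, Complex.conj_natCast]
  ring

theorem eig_apply (i : ι) (b : Ω) (g : G) :
    ∑ x ∈ sub (G := G) a b, F.val i (g • x) = F.eig i b * F.val i (g • a) := by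
  classical
  have hΩ : (Fintype.card Ω : ℂ) ≠ 0 := by
    haveI : Nonempty Ω := ⟨a⟩
    exact Nat.cast_ne_zero.2 Fintype.card_ne_zero
  have hind : ∀ x : Ω, (if x ∈ sub (G := G) a b then (Fintype.card Ω : ℂ) else 0) =
      ∑ j, (F.χ j : G → ℂ) 1 * ((sub (G := G) a b).card : ℂ) * F.val j b * conj (F.val j x) := by
    intro x
    have h := congrArg conj (F.col b x)
    simp only [map_sum, map_mul, Complex.conj_conj, Complex.conj_natCast,
      apply_one (isCharacter_of_irr (F.χ _).2)] at h
    simp only [apply_one (isCharacter_of_irr (F.χ _).2)]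
    rw [h]
    split_ifs <;> simp
  have h1 : (Fintype.card Ω : ℂ) * ∑ x ∈ sub (G := G) a b, F.val i (g • x) =
      ∑ x : Ω, F.val i (g • x) * if x ∈ sub (G := G) a b then (Fintype.card Ω : ℂ) else 0 := by
    simp only [mul_ite, mul_zero, Finset.sum_ite_mem, Finset.univ_inter, Finset.mul_sum]
    exact Finset.sum_congr rfl fun x _ => mul_comm _ _
  refine mul_left_cancel₀ hΩ (h1.trans ?_)
  simp only [hind, Finset.mul_sum]
  rw [Finset.sum_comm]
  have e : ∀ j, ∑ x : Ω, F.val i (g • x) *
      ((F.χ j : G → ℂ) 1 * ((sub (G := G) a b).card : ℂ) * F.val j b * conj (F.val j x)) =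
      if i = j then (Fintype.card Ω : ℂ) * (F.eig i b * F.val i (g • a)) else 0 := by
    intro j
    have h := sum_sph_conv a (F.χ i) (F.χ j) g
    rw [show (∑ x : Ω, F.val i (g • x) *
        ((F.χ j : G → ℂ) 1 * ((sub (G := G) a b).card : ℂ) * F.val j b * conj (F.val j x))) =
      F.eig j b * ((F.χ j : G → ℂ) 1 * ∑ x : Ω, sph a (F.χ i : G → ℂ) (g • x) * conj (sph a (F.χ j : G → ℂ) x)) by
        simp only [eig, val, Finset.mul_sum]
        exact Finset.sum_congr rfl fun x _ => by ring, h]
    simp only [F.inj.eq_iff]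
    split_ifs with hij
    · subst hij
      simp only [val, sph_smul a (isClassFunction (isCharacter_of_irr (F.χ i).2))]
      ring
    · rw [mul_zero]
  rw [Finset.sum_congr rfl fun j _ => e j, Finset.sum_ite_eq Finset.univ i, if_pos (Finset.mem_univ _)]

theorem isIntegral_eig (i : ι) (b : Ω) : IsIntegral ℤ (F.eig i b) := by
  classical
  refine isIntegral_of_smul_mem_submodule (R := ℤ) (Submodule.span ℤ (Set.range (F.val i))) ?_
    (Submodule.fg_span (Set.finite_range _)) (F.eig i b) ?_
  · intro hbot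
    have : (1 : ℂ) ∈ Submodule.span ℤ (Set.range (F.val i)) := Submodule.subset_span ⟨a, F.val_self i⟩
    rw [hbot, Submodule.mem_bot] at this
    exact one_ne_zero this
  · intro z hz
    induction hz using Submodule.span_induction with
    | mem z hz =>
      obtain ⟨c, rfl⟩ := hz
      obtain ⟨g, rfl⟩ := exists_smul_eq G a c
      rw [smul_eq_mul, ← F.eig_apply i b g]
      exact Submodule.sum_mem _ fun x _ => Submodule.subset_span ⟨_, rfl⟩
    | zero => simp
    | add x y _ _ hx hy => rw [smul_add]; exact Submodule.add_mem _ hx hy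
    | smul r x _ hx => rw [smul_comm]; exact Submodule.smul_mem _ _ hx

/-- The eigenvalue as a sum over group elements. -/
theorem eig_eq_sum (i : ι) (b : Ω) [DecidablePred fun x : G => x • a ∈ sub (G := G) a b] :
    (Nat.card (stabilizer G a) : ℂ) * F.eig i b =
      ∑ x ∈ Finset.univ.filter (fun x : G => x • a ∈ sub (G := G) a b), (F.χ i : G → ℂ) x := by
  classical
  set K : ℂ := (Nat.card (stabilizer G a) : ℂ) with hK
  have hK0 : K ≠ 0 := Nat.cast_ne_zero.2 Nat.card_pos.ne'
  have h1 : ∑ x : G, (if x • a ∈ sub (G := G) a b then phi a (F.χ i : G → ℂ) x else 0) = K * F.eig i b := by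
    have hcl := isClassFunction (isCharacter_of_irr (F.χ i).2)
    have e : ∀ x : G, (if x • a ∈ sub (G := G) a b then phi a (F.χ i : G → ℂ) x else 0) =
        (fun c => if c ∈ sub (G := G) a b then F.val i c else 0) (x • a) := fun x => by
      simp only [val, sph_smul a hcl]
      congr
    rw [Finset.sum_congr rfl fun x _ => e x, sum_smul_point a (fun c => if c ∈ sub (G := G) a b then F.val i c else 0)]
    congr 1
    have hval : ∀ c ∈ sub (G := G) a b, F.val i c = F.val i b := fun c hc => sph_of_mem_sub hcl hc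
    rw [Finset.sum_ite_mem, Finset.univ_inter, eig, Finset.sum_congr rfl hval, Finset.sum_const, nsmul_eq_mul]
  rw [← h1, Finset.sum_filter]
  have hinv : ∀ (k : stabilizer G a) (x : G),
      (((k : G) * x) • a ∈ sub (G := G) a b) ↔ (x • a ∈ sub (G := G) a b) := by
    intro k x
    simp only [sub, Finset.mem_filter, Finset.mem_univ, true_and, mul_smul]
    rw [show Quotient.mk (orbitRel (stabilizer G a) Ω) ((k : G) • x • a) =
      Quotient.mk (orbitRel (stabilizer G a) Ω) (x • a) from Quotient.sound (orbitRel_apply.2 ⟨k, rfl⟩)]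
  have e : ∀ x : G, (if x • a ∈ sub (G := G) a b then phi a (F.χ i : G → ℂ) x else 0) =
      K⁻¹ * ∑ k : stabilizer G a,
        if ((k : G) * x) • a ∈ sub (G := G) a b then (F.χ i : G → ℂ) ((k : G) * x) else 0 := fun x => by
    simp only [hinv]
    split_ifs with hx
    · simp only [phi, ← hK]
    · simp
  rw [Finset.sum_congr rfl fun x _ => e x, ← Finset.mul_sum, Finset.sum_comm]
  have e2 : ∀ k : stabilizer G a,
      (∑ x : G, if ((k : G) * x) • a ∈ sub (G := G) a b then (F.χ i : G → ℂ) ((k : G) * x) else 0) =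
      ∑ x : G, if x • a ∈ sub (G := G) a b then (F.χ i : G → ℂ) x else 0 := fun k =>
    Equiv.sum_comp (Equiv.mulLeft (k : G)) fun x => if x • a ∈ sub (G := G) a b then (F.χ i : G → ℂ) x else 0
  rw [Finset.sum_congr rfl fun k _ => e2 k]
  rw [Finset.sum_const, Finset.card_univ, ← Nat.card_eq_fintype_card, nsmul_eq_mul, ← hK, inv_mul_cancel_left₀ hK0]

theorem sum_eig_eq_zero [DecidableEq ι] {i i₀ : ι} (h₀ : ((F.χ i₀ : G → ℂ)) = fun _ => 1) (hi : i ≠ i₀)
    (T : Finset Ω) (hT : ∀ x : Ω, ∃! t, t ∈ T ∧ x ∈ sub (G := G) a t) : ∑ t ∈ T, F.eig i t = 0 := by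
  classical
  have hv : ∀ x, F.val i₀ x = 1 := by
    intro x
    obtain ⟨g, rfl⟩ := exists_smul_eq G a x
    rw [val, h₀, sph_smul a (fun _ _ => rfl)]
    simp only [phi, Finset.sum_const, Finset.card_univ, ← Nat.card_eq_fintype_card, nsmul_eq_mul, mul_one]
    exact inv_mul_cancel₀ (Nat.cast_ne_zero.2 Nat.card_pos.ne')
  have h := F.row i i₀
  simp only [hv, map_one, mul_one, if_neg hi, h₀, one_mul] at h
  rw [← h]
  choose f hf hf' using fun x => (hT x)
  rw [← Finset.sum_fiberwise_of_maps_to (s := Finset.univ) (t := T) (g := f) (fun x _ => (hf x).1)]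
  refine Finset.sum_congr rfl fun t ht => ?_
  have hset : Finset.univ.filter (fun x => f x = t) = sub (G := G) a t := by
    ext x
    simp only [Finset.mem_filter, Finset.mem_univ, true_and]
    exact ⟨fun e => e ▸ (hf x).2, fun hx => (hf' x t ⟨ht, hx⟩).symm⟩
  have hval : ∀ c ∈ sub (G := G) a t, F.val i c = F.val i t := fun c hc =>
    sph_of_mem_sub (isClassFunction (isCharacter_of_irr (F.χ i).2)) hc
  rw [hset, Finset.sum_congr rfl hval, Finset.sum_const, nsmul_eq_mul, eig]

end Frame

end CfsgLib.WielandtTwoP
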