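import Mathlib
import Cfsg.Agent.WielandtTwoP.Decompose
import Cfsg.Agent.WielandtTwoP.Spherical
import Cfsg.Agent.CharBasics.LinearOver

/-!
Facts about a faithful primitive action of degree `2p` used for the permutation character.
-/

set_option autoImplicit false
set_option linter.unusedSectionVars false
set_option linter.style.haveILetI false

namespace CfsgLib.WielandtTwoP

open Cfsg CfsgLib.CharBasics CfsgLib.DefectOne CfsgLib.PermChar MulAction
open scoped ComplexConjugate

universe u

variable {G : Type u} [Group G] [Fintype G] {p : ℕ} [Fact p.Prime]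
  {Ω : Type*} [Fintype Ω] [MulAction G Ω] [FaithfulSMul G Ω] [IsPreprimitive G Ω]

theorem normal_transitive (N : Subgroup G) [N.Normal] (hN : N ≠ ⊥) : IsPretransitive N Ω := by
  refine IsQuasiPreprimitive.isPretransitive_of_normal fun h => hN (eq_bot_iff.2 fun g hg => ?_)
  rw [Subgroup.mem_bot]
  refine eq_of_smul_eq_smul (α := Ω) fun x => ?_
  rw [one_smul]
  exact ((h ▸ Set.mem_univ x : x ∈ fixedPoints N Ω)) ⟨g, hg⟩

theorem card_dvd_of_normal (a : Ω) (N : Subgroup G) [N.Normal] (hN : N ≠ ⊥) :
    Fintype.card Ω ∣ Nat.card N := by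
  haveI := normal_transitive (Ω := Ω) N hN
  rw [← Nat.card_eq_fintype_card, ← index_stabilizer_of_transitive N a]
  exact Subgroup.index_dvd_card _

theorem stab_ne_top (hcard : Fintype.card Ω = 2 * p) (a : Ω) : stabilizer G a ≠ ⊤ := by
  intro h
  have h1 := index_stabilizer_of_transitive G a
  rw [h, Subgroup.index_top, Nat.card_eq_fintype_card, hcard] at h1
  have := (Fact.out : p.Prime).two_le
  omega

theorem stab_not_normal (hcard : Fintype.card Ω = 2 * p) (a : Ω) : ¬ (stabilizer G a).Normal := by
  intro hn
  have hp : p.Prime := Fact.out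
  haveI : Nontrivial Ω := Fintype.one_lt_card_iff_nontrivial.1 (by have := hp.two_le; omega)
  have hmax := IsPreprimitive.isCoatom_stabilizer_of_isPreprimitive G (a := a)
  by_cases hb : stabilizer G a = ⊥
  · have hidx := index_stabilizer_of_transitive G a
    rw [hb, Subgroup.index_bot, Nat.card_eq_fintype_card (α := Ω), hcard] at hidx
    obtain ⟨g, hg⟩ := exists_prime_orderOf_dvd_card' (G := G) p (by rw [hidx]; exact dvd_mul_left _ _)
    rw [hb] at hmax
    have htop : Subgroup.zpowers g = ⊤ :=
      hmax.2 _ (bot_lt_iff_ne_bot.2 fun e => by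
        have := Nat.card_zpowers g
        rw [e, Subgroup.card_bot, hg] at this
        exact hp.ne_one this.symm)
    have := Nat.card_zpowers g
    rw [htop, Subgroup.card_top, hidx, hg] at this
    have := hp.two_le
    omega
  · haveI := hn
    haveI := normal_transitive (Ω := Ω) (stabilizer G a) hb
    obtain ⟨c, hc⟩ := exists_ne a
    obtain ⟨k, hk⟩ := exists_smul_eq (stabilizer G a) a c
    exact hc (hk.symm.trans k.2)

theorem two_le_card_sub (hcard : Fintype.card Ω = 2 * p) {a b : Ω} (hb : b ≠ a) :
    2 ≤ (sub (G := G) a b).card := by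
  have hp : p.Prime := Fact.out
  haveI : Nontrivial Ω := Fintype.one_lt_card_iff_nontrivial.1 (by have := hp.two_le; omega)
  by_contra hlt
  have hone : ∀ x ∈ sub (G := G) a b, x = b := fun x hx =>
    Finset.card_le_one.1 (by omega) x hx b (self_mem_sub b)
  have hle : stabilizer G a ≤ stabilizer G b := by
    intro k hk
    refine hone _ ?_
    classical
    simp only [sub, Finset.mem_filter, Finset.mem_univ, true_and]
    exact Quotient.sound (orbitRel_apply.2 ⟨⟨k, hk⟩, rfl⟩)
  have hmax := IsPreprimitive.isCoatom_stabilizer_of_isPreprimitive G (a := a)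
  have heq : stabilizer G b = stabilizer G a := by
    rcases eq_or_lt_of_le hle with h | h
    · exact h.symm
    · exact absurd (hmax.2 _ h) (stab_ne_top hcard b)
  obtain ⟨g, hg⟩ := exists_smul_eq G a b
  have hgn : g ∈ Subgroup.normalizer (stabilizer G a : Set G) := by
    refine Subgroup.mem_normalizer_iff.2 fun h => ?_
    show h ∈ stabilizer G a ↔ g * h * g⁻¹ ∈ stabilizer G a
    conv_rhs => rw [← heq, mem_stabilizer_iff, ← hg, mul_smul, mul_smul, inv_smul_smul, smul_left_cancel_iff]
    rfl
  have hlt' : stabilizer G a < Subgroup.normalizer (stabilizer G a : Set G) := by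
    refine lt_of_le_of_ne Subgroup.le_normalizer fun e => hb ?_
    rw [← e, mem_stabilizer_iff] at hgn
    exact hg.symm.trans hgn
  exact stab_not_normal hcard a (Subgroup.normalizer_eq_top_iff.1 (hmax.2 _ hlt'))

/-- The trivial character is the only linear constituent. -/
theorem two_le_deg (hcard : Fintype.card Ω = 2 * p) (χ : IrrCharacter G) (hχ : χ ≠ oneChar)
    (hm : mlt Ω χ ≠ 0) : 2 ≤ charDegree (χ : G → ℂ) := by
  classical
  by_contra hlt
  have hd : charDegree (χ : G → ℂ) = 1 := by
    have := charDegree_pos (χ := (χ : G → ℂ)) χ.2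
    omega
  have hp : p.Prime := Fact.out
  obtain ⟨a⟩ : Nonempty Ω := Fintype.card_pos_iff.1 (by have := hp.two_le; omega)
  haveI : Nontrivial Ω := Fintype.one_lt_card_iff_nontrivial.1 (by have := hp.two_le; omega)
  have hc := isCharacter_of_irr χ.2
  have hone : (χ : G → ℂ) 1 = 1 := by rw [apply_one hc, hd, Nat.cast_one]
  have hle : stabilizer G a ≤ charKer (χ : G → ℂ) hc := by
    intro k hk
    rw [mem_charKer, hone]
    by_contra hk1
    have hπe : piChar G Ω = indFun (stabilizer G a) (fun _ => 1) := Cfsg.Agent.S0190.result Ω a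
    have h2 := classInner_indFun (stabilizer G a) (fun _ => (1 : ℂ)) (isClassFunction hc)
    rw [← hπe, mlt_spec, classInner_eq] at h2
    have hS : ∑ h : stabilizer G a, (χ : G → ℂ) h = 0 := by
      have e : ∑ h : stabilizer G a, (χ : G → ℂ) (k * (h : G)) = ∑ h : stabilizer G a, (χ : G → ℂ) h :=
        Fintype.sum_equiv (Equiv.mulLeft (⟨k, hk⟩ : stabilizer G a)) _ _ fun h => rfl
      simp only [Cfsg.Agent.S4811.apply_mul_of_degree_one hc hd, ← Finset.mul_sum] at e
      by_contra h0
      exact hk1 (mul_eq_right₀ h0 |>.1 e)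
    refine hm ?_
    simp only [one_mul, ← map_sum, hS, map_zero, mul_zero] at h2
    exact_mod_cast h2
  haveI := charKer_normal hc
  have hmax := IsPreprimitive.isCoatom_stabilizer_of_isPreprimitive G (a := a)
  rcases eq_or_lt_of_le hle with h | h
  · exact stab_not_normal hcard a (by rw [h]; exact charKer_normal hc)
  · refine hχ (Subtype.ext (funext fun g => ?_))
    have hg : g ∈ charKer (χ : G → ℂ) hc := (hmax.2 _ h) ▸ Subgroup.mem_top g
    rw [mem_charKer, hone] at hg
    exact hg

end CfsgLib.WielandtTwoP
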