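import Mathlib
import Cfsg.Agent.CharBasics.Avg

/-!
A character value fixed by all powers prime to the group order is rational.
-/

set_option autoImplicit false

namespace CfsgLib.WielandtTwoP

open Cfsg CfsgLib.CharBasics Polynomial

/-- A value of a character which is invariant under the powers prime to the order is rational. -/
theorem exists_rat_of_pow_invariant {G : Type*} [Group G] [Finite G] {χ : G → ℂ} (hχ : IsCharacter G χ) (g : G)
    (h : ∀ j : ℕ, j.Coprime (Nat.card G) → χ (g ^ j) = χ g) : ∃ q : ℚ, χ g = (q : ℂ) := by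
  classical
  set N := Nat.card G with hN
  have hN0 : N ≠ 0 := Nat.card_pos.ne'
  obtain ⟨P, hP⟩ := cycPoly_character hχ g
  set n := (coprimeResidues N).card with hn
  have hnpos : 0 < n := coprimeResidues_card_pos hN0
  have hint : ∀ c : ℤ, ∃ R : ℤ, (χ g + c) ^ n = (R : ℂ) := by
    intro c
    obtain ⟨R, hR⟩ := prod_coprime_int hN0 (P + C c)
    refine ⟨R, ?_⟩
    rw [← hR, hn, ← Finset.prod_const]
    refine Finset.prod_congr rfl fun j hj => ?_
    rw [map_add, ← hP, h j (Finset.mem_filter.mp hj).2]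
    simp
  choose R hR using hint
  let v : Fin (n + 1) → ℚ := fun i => ((i : ℕ) : ℚ)
  have hv : Function.Injective v := fun i j hij => Fin.ext (Nat.cast_injective (R := ℚ) hij)
  let q : ℚ[X] := Lagrange.interpolate Finset.univ v fun i => (R ((i : ℕ) : ℤ) : ℚ)
  have hqdeg : q.degree < ((n + 1 : ℕ) : WithBot ℕ) := by
    have := Lagrange.degree_interpolate_lt (s := (Finset.univ : Finset (Fin (n + 1))))
      (fun i => (R ((i : ℕ) : ℤ) : ℚ)) (hv.injOn)
    rw [Finset.card_univ, Fintype.card_fin] at this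
    exact this
  have hqe : ∀ i : Fin (n + 1), q.eval (v i) = (R ((i : ℕ) : ℤ) : ℚ) := fun i =>
    Lagrange.eval_interpolate_at_node _ hv.injOn (Finset.mem_univ i)
  let f : ℂ[X] := (X + C (χ g)) ^ n
  have hfq : f = q.map (algebraMap ℚ ℂ) := by
    refine Polynomial.eq_of_degrees_lt_of_eval_index_eq (ι := Fin (n + 1)) (Finset.univ : Finset (Fin (n + 1)))
      (v := fun i : Fin (n + 1) => ((i : ℕ) : ℂ)) (fun i _ j _ hij => Fin.ext (Nat.cast_injective (R := ℂ) hij)) ?_ ?_ ?_
    · simp only [f, degree_pow, degree_X_add_C, Finset.card_univ, Fintype.card_fin]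
      simp only [nsmul_eq_mul, mul_one]
      exact_mod_cast Nat.lt_succ_self n
    · refine lt_of_le_of_lt degree_map_le ?_
      simpa using hqdeg
    · intro i _
      have : ((i : ℕ) : ℂ) = algebraMap ℚ ℂ (v i) := by simp [v]
      rw [this, eval_map, eval₂_at_apply, hqe]
      simp only [f, eval_pow, eval_add, eval_X, eval_C, v, map_natCast, map_intCast]
      rw [← hR, add_comm, Int.cast_natCast]
  have hc : f.coeff (n - 1) = χ g * n := by
    simp only [f, coeff_X_add_C_pow]
    rw [show n - (n - 1) = 1 by omega, pow_one, show n.choose (n - 1) = n by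
      rw [Nat.choose_symm (by omega : 1 ≤ n), Nat.choose_one_right]]
  rw [hfq, coeff_map] at hc
  refine ⟨q.coeff (n - 1) / n, ?_⟩
  rw [Rat.cast_div, Rat.cast_natCast, eq_div_iff (Nat.cast_ne_zero.2 hnpos.ne'), ← hc]
  rfl

end CfsgLib.WielandtTwoP
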