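import Mathlib
import Cfsg.Agent.WielandtTwoP.Prim
import Cfsg.Agent.WielandtTwoP.Rational
import Cfsg.Agent.DefectOne.FTNormal

/-!
The permutation character of a primitive group of degree `2p` is not the sum of a conjugate family and one further
constituent.
-/

set_option autoImplicit false
set_option linter.unusedSectionVars false
set_option linter.style.haveILetI false

namespace CfsgLib.WielandtTwoP

open Cfsg CfsgLib.CharBasics CfsgLib.DefectOne CfsgLib.PermChar MulAction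
open scoped ComplexConjugate

universe u

/-- A rational algebraic integer is an integer. -/
theorem exists_int_of_rat {z : ℂ} {q : ℚ} (hz : z = (q : ℂ)) (hi : IsIntegral ℤ z) : ∃ n : ℤ, q = n := by
  have h : IsIntegral ℤ q := by
    refine (isIntegral_algebraMap_iff (algebraMap ℚ ℂ).injective).mp ?_
    rw [hz] at hi
    exact hi
  obtain ⟨n, hn⟩ := IsIntegrallyClosed.isIntegral_iff.mp h
  exact ⟨n, hn.symm⟩

theorem int_of_sq_mul {q : ℚ} {p : ℕ} (hp : p.Prime) {z : ℤ} (h : q ^ 2 * (p : ℚ) = (z : ℚ)) :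
    ∃ k : ℤ, q = k := by
  have hden : (q.den : ℚ) ≠ 0 := Nat.cast_ne_zero.2 q.den_nz
  rw [← Rat.num_div_den q, div_pow, div_mul_eq_mul_div, div_eq_iff (pow_ne_zero _ hden)] at h
  have h' : q.num ^ 2 * (p : ℤ) = z * (q.den : ℤ) ^ 2 := by exact_mod_cast h
  have hd : q.den ^ 2 ∣ q.num.natAbs ^ 2 * p := by
    have := congrArg Int.natAbs h'
    rw [Int.natAbs_mul, Int.natAbs_mul, Int.natAbs_pow, Int.natAbs_pow, Int.natAbs_natCast,
      Int.natAbs_natCast] at this
    exact ⟨z.natAbs, this.trans (mul_comm _ _)⟩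
  have hcop : Nat.Coprime (q.den ^ 2) (q.num.natAbs ^ 2) := (q.reduced.symm).pow 2 2
  have hdp : q.den ^ 2 ∣ p := hcop.dvd_of_dvd_mul_left hd
  have h1 : q.den = 1 := by
    rcases hp.eq_one_or_self_of_dvd _ hdp with h1 | h1
    · exact (pow_eq_one_iff.1 h1).resolve_right two_ne_zero
    · exfalso
      have h2 : q.den ∣ p := (dvd_pow_self q.den two_ne_zero).trans hdp
      rcases hp.eq_one_or_self_of_dvd _ h2 with h3 | h3
      · rw [h3, one_pow] at h1; exact hp.ne_one h1.symm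
      · rw [h3] at h1
        nlinarith [hp.two_le]
  exact ⟨q.num, (Rat.den_eq_one_iff q).1 h1 |>.symm⟩

/-- The arithmetic on one suborbit. -/
theorem numeric {p n T k r : ℤ} (hp5 : 5 ≤ p) (hnsq : ∀ y : ℤ, y * y ≠ p) (hodd : ¬ 2 ∣ p) (hn : 2 ≤ n)
    (h1 : 2 * n + (p - 1) * T + 2 * p * r = 0)
    (h2 : 4 * n ^ 2 + (p - 1) * (T ^ 2 + p * k ^ 2) + 4 * p * r ^ 2 = 8 * p * n)
    (hpar : 2 ∣ T - k) : 2 * p ≤ 2 * n - T := by
  obtain ⟨m, hm⟩ : ∃ m, m = -(T + 2 * r) := ⟨_, rfl⟩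
  have hT : T = 2 * n - p * m := by subst hm; linear_combination -h1
  have hr : 2 * r = -(m + T) := by subst hm; ring
  have he : p * (8 * n ^ 2 - 8 * n * (p * m - m + 1) + m ^ 2 * (2 * p - 1) * (p - 1) + (p - 1) * k ^ 2) = 0 := by
    have e : 4 * p * r ^ 2 = p * (m + T) ^ 2 := by
      rw [show 4 * p * r ^ 2 = p * (2 * r) ^ 2 by ring, hr]; ring
    rw [e, hT] at h2
    linear_combination h2
  have he2 := (mul_eq_zero.1 he).resolve_left (by omega)
  have hsq : (4 * n - 2 * (p * m - m + 1)) ^ 2 = (p - 1) * (8 * m - 2 * m ^ 2 - 2 * k ^ 2) + 4 := by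
    linear_combination 2 * he2
  have hbound : 0 ≤ 4 * m - m ^ 2 - k ^ 2 := by
    by_contra hc
    nlinarith [sq_nonneg (4 * n - 2 * (p * m - m + 1))]
  rcases lt_trichotomy m 1 with hm1 | hm1 | hm1
  · exfalso
    have hm0 : m = 0 := by nlinarith [sq_nonneg k]
    subst hm0
    have hk : k = 0 := by nlinarith [sq_nonneg k]
    subst hk
    nlinarith
  · exfalso
    subst hm1
    have hk : k ^ 2 = 1 := by
      have h3 : k ^ 2 ≤ 3 := by linarith
      have hklo : -1 ≤ k := by nlinarith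
      have hkhi : k ≤ 1 := by nlinarith
      obtain ⟨c, hc⟩ := hpar
      interval_cases k
      · norm_num
      · exact absurd (⟨n - c, by linarith⟩ : 2 ∣ p) hodd
      · norm_num
    refine hnsq (2 * n - p) ?_
    rw [hk] at hsq
    have : 4 * ((2 * n - p) * (2 * n - p)) = 4 * p := by linear_combination hsq
    linarith
  · nlinarith [mul_le_mul_of_nonneg_left (show (2 : ℤ) ≤ m by omega) (show (0 : ℤ) ≤ p by omega)]

variable {G : Type u} [Group G] [Fintype G] {p : ℕ} [Fact p.Prime] (D : Data G p)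

/-- The sign attached to a subgroup of index two of the exponents. -/
noncomputable def sgn (φ : IrrCharacter D.V) (a : (ZMod p)ˣ) : ℤ := by
  classical exact if D.cls φ a = 1 then 1 else -1

theorem sgn_sq (φ : IrrCharacter D.V) (a : (ZMod p)ˣ) : sgn D φ a * sgn D φ a = 1 := by
  rw [sgn]; split_ifs <;> norm_num

theorem sgn_mul {φ : IrrCharacter D.V} (h2 : (D.U φ).index = 2) (a b : (ZMod p)ˣ) :
    sgn D φ (a * b) = sgn D φ a * sgn D φ b := by
  classical
  have hmem : ∀ c, D.cls φ c = 1 ↔ c ∈ D.U φ := fun c => QuotientGroup.eq_one_iff c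
  have h := Subgroup.mul_mem_iff_of_index_two h2 (a := a) (b := b)
  simp only [sgn, hmem]
  by_cases ha : a ∈ D.U φ <;> by_cases hb : b ∈ D.U φ <;> simp [ha, hb, h]

theorem sum_sgn {φ : IrrCharacter D.V} (h2 : (D.U φ).index = 2) : ∑ a : (ZMod p)ˣ, sgn D φ a = 0 := by
  classical
  obtain ⟨s, hs⟩ : ∃ s, s ∉ D.U φ := by
    by_contra hc
    push Not at hc
    rw [(Subgroup.eq_top_iff' _).2 hc, Subgroup.index_top] at h2
    omega
  have hss : sgn D φ s = -1 := by
    rw [sgn, if_neg]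
    exact fun h => hs ((QuotientGroup.eq_one_iff s).1 h)
  have e : ∑ a : (ZMod p)ˣ, sgn D φ (s * a) = ∑ a : (ZMod p)ˣ, sgn D φ a :=
    Equiv.sum_comp (Equiv.mulLeft s) (sgn D φ)
  simp only [sgn_mul D h2, hss, neg_one_mul, Finset.sum_neg_distrib] at e
  linarith

theorem sum_units_ee (x : ZMod p) :
    ∑ b : (ZMod p)ˣ, Data.ee (x * (b : ZMod p)) = (if x = 0 then (p : ℂ) else 0) - 1 := by
  classical
  have h := Data.sum_ee_mul (p := p) x
  rw [← Finset.sum_erase_add _ _ (Finset.mem_univ 0), zero_mul, Data.ee_zero] at h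
  rw [← h, add_sub_cancel_right]
  exact Finset.sum_bij' (fun b _ => (b : ZMod p)) (fun j hj => Units.mk0 j (Finset.mem_erase.1 hj).1)
    (fun b _ => Finset.mem_erase.2 ⟨b.ne_zero, Finset.mem_univ _⟩) (fun _ _ => Finset.mem_univ _)
    (fun b _ => Units.ext rfl) (fun _ _ => rfl) (fun b _ => by rw [mul_comm])

/-- The Gauss sum. -/
noncomputable def gauss (φ : IrrCharacter D.V) : ℂ :=
  ∑ a : (ZMod p)ˣ, (sgn D φ a : ℂ) * Data.ee (a : ZMod p)

theorem gauss_twist {φ : IrrCharacter D.V} (h2 : (D.U φ).index = 2) (i : (ZMod p)ˣ) :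
    ∑ a : (ZMod p)ˣ, (sgn D φ a : ℂ) * Data.ee ((i : ZMod p) * (a : ZMod p)) = (sgn D φ i : ℂ) * gauss D φ := by
  rw [gauss, Finset.mul_sum]
  refine Fintype.sum_equiv (Equiv.mulLeft i) _ _ fun a => ?_
  simp only [Equiv.coe_mulLeft, sgn_mul D h2, Units.val_mul]
  rw [← mul_assoc]
  congr 1
  rw [← Int.cast_mul, ← mul_assoc, sgn_sq, one_mul]

theorem gauss_sq {φ : IrrCharacter D.V} (h2 : (D.U φ).index = 2) :
    gauss D φ * gauss D φ = (sgn D φ (-1) : ℂ) * p := by
  classical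
  have e : gauss D φ * gauss D φ = ∑ b : (ZMod p)ˣ, ∑ c : (ZMod p)ˣ,
      (sgn D φ c : ℂ) * Data.ee ((1 + (c : ZMod p)) * (b : ZMod p)) := by
    conv_lhs => arg 1; rw [gauss]
    rw [Finset.sum_mul]
    refine Finset.sum_congr rfl fun b _ => ?_
    rw [mul_right_comm, ← gauss_twist D h2 b, Finset.sum_mul]
    refine Finset.sum_congr rfl fun c _ => ?_
    rw [mul_assoc, ← Data.ee_add]
    congr 2
    ring
  rw [e, Finset.sum_comm]
  simp only [← Finset.mul_sum, sum_units_ee, mul_sub, mul_one, Finset.sum_sub_distrib]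
  rw [← Int.cast_sum, sum_sgn D h2, Int.cast_zero, sub_zero, Finset.sum_eq_single (-1 : (ZMod p)ˣ)
    (fun c _ hc => by
      rw [if_neg, mul_zero]
      intro h
      exact hc (Units.ext (by rw [Units.val_neg, Units.val_one]; linear_combination h)))
    (fun h => absurd (Finset.mem_univ _) h), if_pos (by simp)]

theorem gauss_conj {φ : IrrCharacter D.V} (h2 : (D.U φ).index = 2) :
    gauss D φ * conj (gauss D φ) = p := by
  have e : conj (gauss D φ) = (sgn D φ (-1) : ℂ) * gauss D φ := by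
    rw [← gauss_twist D h2, gauss, map_sum]
    refine Finset.sum_congr rfl fun a _ => ?_
    rw [map_mul, map_intCast, Data.conj_ee, Units.val_neg, Units.val_one, neg_one_mul]
  rw [e, mul_left_comm, gauss_sq D h2, ← mul_assoc, ← Int.cast_mul, sgn_sq, Int.cast_one, one_mul]

theorem theta_pt (hV : Nat.card D.V ∣ 2) {φ : IrrCharacter D.V} [DecidableEq (D.Idx φ)] (F : D.Family φ)
    (hε : F.ε = 1) (q : D.Idx φ) {i : ZMod p} (hi : i ≠ 0) (v : D.V) :
    (F.θ q : G → ℂ) (D.pt (i, v)) =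
      (∑ a : (ZMod p)ˣ, if q = D.cls φ a then Data.ee (i * (a : ZMod p)) else 0) * (φ : D.V → ℂ) v := by
  classical
  rw [D.apply_pt' (F.θ q) hi v, Finset.sum_eq_single φ (fun ψ _ hψ => by
    have : ψ ∉ D.orb φ := by rw [orb_eq D hV, Finset.mem_singleton]; exact hψ
    simp [F.d_other q ψ this]) (fun h => absurd (Finset.mem_univ _) h)]
  congr 1
  rw [← Finset.sum_erase_add _ _ (Finset.mem_univ 0), D.d_zero, Int.cast_zero, zero_mul, add_zero]
  refine Finset.sum_bij' (fun j hj => Units.mk0 j (Finset.mem_erase.1 hj).1) (fun a _ => (a : ZMod p))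
    (fun _ _ => Finset.mem_univ _) (fun a _ => Finset.mem_erase.2 ⟨a.ne_zero, Finset.mem_univ _⟩)
    (fun _ _ => rfl) (fun a _ => Units.ext rfl) (fun j hj => ?_)
  have h := F.d_eq' q (Units.mk0 j (Finset.mem_erase.1 hj).1)
  rw [Units.val_mk0] at h
  rw [h, hε, Units.val_mk0]
  split_ifs <;> simp

theorem theta_diff (hV : Nat.card D.V ∣ 2) {φ : IrrCharacter D.V} (F : D.Family φ) (hε : F.ε = 1)
    (h2 : (D.U φ).index = 2) {s : D.Idx φ} (hs : s ≠ 1) (g : G) :
    ∃ z : ℤ, (F.θ 1 : G → ℂ) g - (F.θ s : G → ℂ) g = (z : ℂ) * gauss D φ := by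
  classical
  by_cases hg : p ∣ orderOf g
  swap
  · exact ⟨0, by rw [D.theta_regular F s hg, _root_.sub_self, Int.cast_zero, zero_mul]⟩
  obtain ⟨y, i, v, hi, hy⟩ := D.exists_conj_pt hg
  have hall : ∀ q : D.Idx φ, q = 1 ∨ q = s := by
    intro q
    by_contra hc
    push Not at hc
    have hcard : ({q, 1, s} : Finset (D.Idx φ)).card ≤ 2 := h2 ▸ D.card_Idx φ ▸ Finset.card_le_univ _
    rw [Finset.card_insert_of_notMem (by simp [hc.1, hc.2]),
      Finset.card_insert_of_notMem (by simp [Ne.symm hs]), Finset.card_singleton] at hcard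
    omega
  obtain ⟨e, he⟩ : ∃ e : ℤ, (φ : D.V → ℂ) v = e := by
    have hd := deg_V D hV φ
    have hc := isCharacter_of_irr φ.2
    have hv : v ^ 2 = 1 := orderOf_dvd_iff_pow_eq_one.1 ((orderOf_dvd_natCard v).trans hV)
    have h1 : (φ : D.V → ℂ) v * (φ : D.V → ℂ) v = 1 := by
      rw [← Cfsg.Agent.S4811.apply_mul_of_degree_one hc hd, ← sq, hv, apply_one hc, hd, Nat.cast_one]
    rcases mul_self_eq_one_iff.1 h1 with h | h
    · exact ⟨1, by simp [h]⟩
    · exact ⟨-1, by simp [h]⟩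
  refine ⟨e * sgn D φ (Units.mk0 i hi), ?_⟩
  have hcl : ∀ q, (F.θ q : G → ℂ) g = (F.θ q : G → ℂ) (D.pt (i, v)) := fun q => by
    rw [← hy, isClassFunction (isCharacter_of_irr (F.θ q).2) g y]
  rw [hcl, hcl, theta_pt D hV F hε 1 hi, theta_pt D hV F hε s hi, ← sub_mul, ← Finset.sum_sub_distrib, he,
    mul_comm, Int.cast_mul, mul_assoc, ← gauss_twist D h2]
  congr 1
  refine Finset.sum_congr rfl fun a _ => ?_
  rw [Units.val_mk0, sgn]
  rcases hall (D.cls φ a) with h | h <;> simp [h, hs, Ne.symm hs]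

variable {Ω : Type*} [Fintype Ω] [MulAction G Ω]

/-- The rank is the number of constituents. -/
theorem rank_eq [IsPretransitive G Ω] [Nonempty Ω] (a : Ω) (T : Finset (IrrCharacter G))
    (hT : ∀ χ ∈ T, mlt Ω χ = 1) (hout : ∀ χ, χ ∉ T → mlt Ω χ = 0) :
    Nat.card (orbitRel.Quotient (stabilizer G a) Ω) = T.card := by
  classical
  haveI : Fintype (IrrCharacter G) := Fintype.ofFinite _
  have h := inner_self_eq_rank (G := G) (Ω := Ω) a
  conv_lhs at h => arg 2; rw [eq_of_mult T hT hout]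
  rw [classInner_sum_right, Finset.sum_congr rfl (g := fun _ => (1 : ℂ)) fun χ hχ => by
    rw [mlt_spec, hT χ hχ, Nat.cast_one], Finset.sum_const, nsmul_eq_mul, mul_one] at h
  exact_mod_cast h.symm

variable [FaithfulSMul G Ω] [IsPreprimitive G Ω]

theorem no_small_family [Nonempty Ω] (hS : Setup D (Ω := Ω)) {φ : IrrCharacter D.V} (F : D.Family φ)
    (hε : F.ε = 1) (h3 : 3 ≤ (D.U φ).index) (q : D.Idx φ)
    (hdeg : (D.U φ).index * charDegree (F.θ q : G → ℂ) = p - 1) : False := by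
  classical
  obtain ⟨hV, hcard, -, -, hp3⟩ := hS
  have hp : p.Prime := Fact.out
  obtain ⟨a⟩ : Nonempty Ω := inferInstance
  have hc := isCharacter_of_irr (F.θ q).2
  have hM : ∃ M : Ideal AlgInt, IsPModular p M := CfsgLib.Blocks.exists_modular hp
  obtain ⟨M, hM⟩ := hM
  have hepos : 0 < charDegree (F.θ q : G → ℂ) := charDegree_pos (F.θ q).2
  have hfaith : ∀ g : G, (F.θ q : G → ℂ) g = (F.θ q : G → ℂ) 1 → g = 1 := by
    intro g hg
    by_contra hg1
    haveI := charKer_normal hc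
    have hK : charKer (F.θ q : G → ℂ) hc ≠ ⊥ := fun e => hg1 (by
      have h' : g ∈ charKer (F.θ q : G → ℂ) hc := hg
      rwa [e, Subgroup.mem_bot] at h')
    have hdvd : p ∣ Nat.card (charKer (F.θ q : G → ℂ) hc) :=
      (hcard ▸ dvd_mul_left p 2).trans (card_dvd_of_normal a _ hK)
    obtain ⟨y, hy⟩ := exists_prime_orderOf_dvd_card' p hdvd
    have hyo : p ∣ orderOf (y : G) := by rw [Subgroup.orderOf_coe, hy]
    obtain ⟨w, i, v, hi, hw⟩ := D.exists_conj_pt hyo
    have hmem : D.pt (i, v) ∈ charKer (F.θ q : G → ℂ) hc := hw ▸ (charKer_normal hc).conj_mem _ y.2 w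
    have hpow : D.pt (i, v) ^ 2 ∈ charKer (F.θ q : G → ℂ) hc := pow_mem hmem 2
    have h2 : D.pt (i, v) ^ 2 = D.x ^ (2 * i.val) := by
      rw [Data.pt, (D.commute_xV _ v).mul_pow, ← pow_mul, mul_comm (i, v).1.val]
      have hv : v ^ 2 = 1 := orderOf_dvd_iff_pow_eq_one.1 ((orderOf_dvd_natCard v).trans hV)
      have : ((v : D.H) : G) ^ 2 = 1 := by
        simpa using congrArg (fun z : D.V => ((z : D.H) : G)) hv
      rw [this, mul_one]
    rw [h2] at hpow
    have hcop : Nat.Coprime (2 * i.val) (orderOf D.x) := by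
      rw [D.hx]
      refine Nat.Coprime.mul_left ((Nat.coprime_primes Nat.prime_two hp).2 (by omega)) ?_
      refine (hp.coprime_iff_not_dvd.2 fun hd => hi ?_).symm
      rw [← ZMod.natCast_zmod_val i]
      exact (ZMod.natCast_eq_zero_iff ..).2 hd
    obtain ⟨m, hm⟩ := exists_pow_eq_self_of_coprime hcop
    have hx : D.x ∈ charKer (F.θ q : G → ℂ) hc := hm ▸ pow_mem hpow m
    have hsum := sum_singular D hV (F.θ q)
    have hall : ∀ j ∈ (Finset.univ : Finset (ZMod p)).erase 0,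
        (F.θ q : G → ℂ) (D.pt (j, 1)) = (charDegree (F.θ q : G → ℂ) : ℂ) := fun j _ => by
      rw [← apply_one hc]
      have : D.pt (j, 1) = D.x ^ j.val := by simp [Data.pt]
      rw [this]
      exact pow_mem hx j.val
    rw [Finset.sum_congr rfl hall, Finset.sum_const, nsmul_eq_mul,
      Finset.card_erase_of_mem (Finset.mem_univ _), Finset.card_univ, ZMod.card,
      sv_eq_S D hV hM (D.theta_mem_blk F q), D.S_theta, hε, one_mul] at hsum
    have h' : (((p - 1) * charDegree (F.θ q : G → ℂ) + Nat.card (D.U φ) : ℕ) : ℂ) = 0 := by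
      push_cast at hsum ⊢
      linear_combination hsum
    have hU : 0 < Nat.card (D.U φ) := Nat.card_pos
    have := Nat.cast_eq_zero.1 h'
    omega
  have hsmall : 2 * charDegree (F.θ q : G → ℂ) + 1 < p := by
    have : 3 * charDegree (F.θ q : G → ℂ) ≤ p - 1 := hdeg ▸ Nat.mul_le_mul_right _ h3
    omega
  haveI hn : (Subgroup.zpowers D.x).Normal :=
    normal_of_small (Nat.card G) G rfl D.hSyl _ hc hfaith hsmall D.x D.hx
  have hne : Subgroup.zpowers D.x ≠ ⊥ := fun e => by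
    have := Nat.card_zpowers D.x
    rw [e, Subgroup.card_bot, D.hx] at this
    exact hp.ne_one this.symm
  have := Nat.le_of_dvd (by rw [Nat.card_zpowers, D.hx]; exact hp.pos)
    (card_dvd_of_normal a (Subgroup.zpowers D.x) hne)
  rw [Nat.card_zpowers, D.hx, hcard] at this
  have := hp.pos
  omega

set_option maxHeartbeats 1600000 in
theorem no_rank_four [Nonempty Ω] (hS : Setup D (Ω := Ω)) (χ₀ : IrrCharacter G) (hχ₀ : χ₀ ≠ oneChar)
    (hm₀ : mlt Ω χ₀ = 1) (S : Finset (IrrCharacter G)) (h1S : oneChar ∉ S) (h0S : χ₀ ∉ S)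
    (hSm : ∀ χ ∈ S, mlt Ω χ = 1) (hout : ∀ χ, χ ≠ oneChar → χ ≠ χ₀ → χ ∉ S → mlt Ω χ = 0)
    (hd₀ : charDegree (χ₀ : G → ℂ) = p) {φ : IrrCharacter D.V} (F : D.Family φ) (hε : F.ε = 1)
    (h2 : (D.U φ).index = 2) (hSF : ∀ ψ, ψ ∈ S ↔ ψ ∈ Set.range F.θ)
    (hdeg : ∀ q, (D.U φ).index * charDegree (F.θ q : G → ℂ) = p - 1) : False := by
  classical
  haveI : Fintype (IrrCharacter G) := Fintype.ofFinite _
  obtain ⟨hV, hcard, -, hlin, hp3⟩ := hS
  have hp : p.Prime := Fact.out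
  obtain ⟨a⟩ : Nonempty Ω := inferInstance
  obtain ⟨s, hs⟩ : ∃ s : D.Idx φ, s ≠ 1 := by
    haveI : Nontrivial (D.Idx φ) := Fintype.one_lt_card_iff_nontrivial.1 (by rw [D.card_Idx, h2]; norm_num)
    exact exists_ne 1
  have hne1 : ∀ q, F.θ q ≠ oneChar := fun q e => h1S (e ▸ (hSF _).2 ⟨q, rfl⟩)
  have hne0 : ∀ q, F.θ q ≠ χ₀ := fun q e => h0S (e ▸ (hSF _).2 ⟨q, rfl⟩)
  set f := charDegree (F.θ 1 : G → ℂ) with hf
  have hfq : ∀ q, charDegree (F.θ q : G → ℂ) = f := fun q =>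
    Nat.eq_of_mul_eq_mul_left (show 0 < (D.U φ).index by omega) ((hdeg q).trans (hdeg 1).symm)
  have hpf : p = 2 * f + 1 := by
    have := hdeg 1
    rw [h2] at this
    omega
  have hf2 : 2 ≤ f := hlin _ (hne1 1) (by rw [hSm _ ((hSF _).2 ⟨1, rfl⟩)]; exact one_ne_zero)
  have hscard : S.card = 2 := by
    rw [show S = Finset.univ.image F.θ by ext ψ; simp [hSF], Finset.card_image_of_injective _ F.inj,
      Finset.card_univ, D.card_Idx, h2]
  have hrank : Nat.card (orbitRel.Quotient (stabilizer G a) Ω) = 4 := by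
    rw [rank_eq a (insert oneChar (insert χ₀ S)) (fun χ hχ => by
      simp only [Finset.mem_insert] at hχ
      rcases hχ with rfl | rfl | hχ
      · exact mlt_one
      · exact hm₀
      · exact hSm χ hχ) (fun χ hχ => by
      simp only [Finset.mem_insert, not_or] at hχ
      exact hout χ hχ.1 hχ.2.1 hχ.2.2), Finset.card_insert_of_notMem (by simp [h1S, Ne.symm hχ₀]),
      Finset.card_insert_of_notMem h0S, hscard]
  let X : Fin 4 → IrrCharacter G := ![oneChar, F.θ 1, F.θ s, χ₀]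
  have hXinj : Function.Injective X := by
    intro i j h
    have h1s : F.θ 1 ≠ F.θ s := fun e => hs (F.inj e).symm
    fin_cases i <;> fin_cases j <;>
      simp [X, hne1, hne0, hχ₀, Ne.symm hχ₀, h1s, Ne.symm h1s, fun q => Ne.symm (hne1 q),
        fun q => Ne.symm (hne0 q)] at h ⊢
  let Fr : Frame (G := G) a (Fin 4) :=
    { χ := X
      inj := hXinj
      mult := fun i => by
        rw [mlt_spec]
        have : mlt Ω (X i) = 1 := by
          fin_cases i
          · exact mlt_one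
          · exact hSm _ ((hSF _).2 ⟨1, rfl⟩)
          · exact hSm _ ((hSF _).2 ⟨s, rfl⟩)
          · exact hm₀
        rw [this, Nat.cast_one]
      card := by rw [hrank, Fintype.card_fin] }
  have hX0 : ((Fr.χ 0 : G → ℂ)) = fun _ => 1 := rfl
  have hv0 : ∀ b, Fr.eig 0 b = ((sub (G := G) a b).card : ℂ) := by
    intro b
    have hv : Fr.val 0 b = 1 := by
      obtain ⟨g, rfl⟩ := exists_smul_eq G a b
      rw [Frame.val, hX0, sph_smul a (fun _ _ => rfl)]
      simp only [phi, Finset.sum_const, Finset.card_univ, ← Nat.card_eq_fintype_card, nsmul_eq_mul, mul_one]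
      exact inv_mul_cancel₀ (Nat.cast_ne_zero.2 Nat.card_pos.ne')
    rw [Frame.eig, hv, mul_one]
  have hd : (Fr.χ 0 : G → ℂ) 1 = 1 ∧ (Fr.χ 1 : G → ℂ) 1 = (f : ℂ) ∧ (Fr.χ 2 : G → ℂ) 1 = (f : ℂ) ∧
      (Fr.χ 3 : G → ℂ) 1 = (p : ℂ) := by
    refine ⟨rfl, ?_, ?_, ?_⟩
    · exact apply_one (isCharacter_of_irr (F.θ 1).2)
    · rw [show Fr.χ 2 = F.θ s from rfl, apply_one (isCharacter_of_irr (F.θ s).2), hfq]
    · rw [show Fr.χ 3 = χ₀ from rfl, apply_one (isCharacter_of_irr χ₀.2), hd₀]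
  have hχ₀rat : ∀ g, ∃ q : ℚ, (χ₀ : G → ℂ) g = q := by
    intro g
    refine exists_rat_of_pow_invariant (isCharacter_of_irr χ₀.2) g fun j hj => ?_
    let χ' : IrrCharacter G := ⟨fun x => (χ₀ : G → ℂ) (x ^ j), BrauerInd.isIrr_pow hj χ₀.2⟩
    have hm' : mlt Ω χ' = 1 := by
      have h := inner_pow (Ω := Ω) hj (χ₀ : G → ℂ)
      rw [mlt_spec, show (fun x => (χ₀ : G → ℂ) (x ^ j)) = (χ' : G → ℂ) from rfl, mlt_spec, hm₀] at h
      exact_mod_cast h
    have hd' : charDegree (χ' : G → ℂ) = p := by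
      rw [← hd₀]
      apply Nat.cast_injective (R := ℂ)
      rw [← apply_one (isCharacter_of_irr χ'.2), ← apply_one (isCharacter_of_irr χ₀.2)]
      simp [χ']
    by_cases h0 : χ' = χ₀
    · exact congrFun (congrArg Subtype.val h0) g
    exfalso
    by_cases h1 : χ' = oneChar
    · have := apply_one (isCharacter_of_irr χ'.2)
      rw [hd', h1, oneChar_apply] at this
      have : p = 1 := by exact_mod_cast this.symm
      omega
    by_cases h2' : χ' ∈ S
    · obtain ⟨q, hq⟩ := (hSF _).1 h2'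
      rw [← hq, hfq] at hd'
      omega
    rw [hout χ' h1 h0 h2'] at hm'
    exact zero_ne_one hm'
  have hK0 : (Nat.card (stabilizer G a) : ℂ) ≠ 0 := Nat.cast_ne_zero.2 Nat.card_pos.ne'
  have hper : ∀ b, b ≠ a → ∃ T : ℤ, Fr.eig 1 b + Fr.eig 2 b = (T : ℂ) ∧
      2 * (p : ℤ) ≤ 2 * ((sub (G := G) a b).card : ℤ) - T := by
    intro b hb
    set n := (sub (G := G) a b).card with hn
    set A := Finset.univ.filter (fun x : G => x • a ∈ sub (G := G) a b) with hA
    obtain ⟨r, hr⟩ : ∃ r : ℤ, Fr.eig 3 b = (r : ℂ) := by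
      choose Q hQ using hχ₀rat
      have e : Fr.eig 3 b = (((∑ x ∈ A, Q x) / Nat.card (stabilizer G a) : ℚ) : ℂ) := by
        push_cast
        rw [eq_div_iff hK0, mul_comm, Fr.eig_eq_sum]
        exact Finset.sum_congr rfl fun x _ => hQ x
      obtain ⟨r, hr⟩ := exists_int_of_rat e (Fr.isIntegral_eig 3 b)
      exact ⟨r, by rw [e, hr]; simp⟩
    have h1 := Fr.sum_deg_eig hb
    have h2' := Fr.sum_deg_normSq b
    rw [Fin.sum_univ_four, hd.1, hd.2.1, hd.2.2.1, hd.2.2.2, hv0, ← hn, hr] at h1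
    rw [Fin.sum_univ_four, hd.1, hd.2.1, hd.2.2.1, hd.2.2.2, hv0, ← hn, hr, hcard] at h2'
    have hf0 : (f : ℂ) ≠ 0 := Nat.cast_ne_zero.2 (by omega)
    have hi1 := Fr.isIntegral_eig 1 b
    have hi2 := Fr.isIntegral_eig 2 b
    obtain ⟨T, hT⟩ : ∃ T : ℤ, Fr.eig 1 b + Fr.eig 2 b = (T : ℂ) := by
      have e : Fr.eig 1 b + Fr.eig 2 b = (((-((n : ℚ) + p * r)) / f : ℚ) : ℂ) := by
        push_cast
        rw [eq_div_iff hf0]
        linear_combination h1
      obtain ⟨T, hT⟩ := exists_int_of_rat e (hi1.add hi2)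
      exact ⟨T, by rw [e, hT]; simp⟩
    obtain ⟨k, hk⟩ : ∃ k : ℤ, Fr.eig 1 b - Fr.eig 2 b = (k : ℂ) * gauss D φ := by
      choose Z hZ using theta_diff D hV F hε h2 hs
      obtain ⟨c, hc⟩ : ∃ c : ℚ, Fr.eig 1 b - Fr.eig 2 b = (c : ℂ) * gauss D φ := by
        refine ⟨(∑ x ∈ A, (Z x : ℚ)) / Nat.card (stabilizer G a), ?_⟩
        push_cast
        rw [div_mul_eq_mul_div, eq_div_iff hK0, mul_comm, mul_sub, Fr.eig_eq_sum, Fr.eig_eq_sum,
          ← Finset.sum_sub_distrib, Finset.sum_mul]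
        exact Finset.sum_congr rfl fun x _ => hZ x
      have e : (Fr.eig 1 b - Fr.eig 2 b) * (Fr.eig 1 b - Fr.eig 2 b) =
          ((c ^ 2 * (sgn D φ (-1) : ℚ) * p : ℚ) : ℂ) := by
        rw [hc]
        push_cast
        linear_combination (c : ℂ) ^ 2 * gauss_sq D h2
      obtain ⟨z, hz⟩ := exists_int_of_rat e ((hi1.sub hi2).mul (hi1.sub hi2))
      obtain ⟨k, rfl⟩ := int_of_sq_mul hp (z := sgn D φ (-1) * z) (q := c) (by
        have hs2 : ((sgn D φ (-1) : ℚ)) * (sgn D φ (-1) : ℚ) = 1 := by exact_mod_cast sgn_sq D φ (-1)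
        push_cast
        linear_combination (sgn D φ (-1) : ℚ) * hz - c ^ 2 * (p : ℚ) * hs2)
      exact ⟨k, by rw [hc]; simp⟩
    set σ := sgn D φ (-1) with hσ
    have hpar : 2 ∣ T - k := by
      have e : Fr.eig 1 b * Fr.eig 2 b = ((((T ^ 2 - σ * p * k ^ 2 : ℤ) : ℚ) / 4 : ℚ) : ℂ) := by
        push_cast
        rw [eq_div_iff (by norm_num : (4 : ℂ) ≠ 0)]
        linear_combination (Fr.eig 1 b + Fr.eig 2 b + T) * hT -
          (Fr.eig 1 b - Fr.eig 2 b + k * gauss D φ) * hk - (k : ℂ) ^ 2 * gauss_sq D h2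
      obtain ⟨z, hz⟩ := exists_int_of_rat e (hi1.mul hi2)
      rw [div_eq_iff (by norm_num : (4 : ℚ) ≠ 0)] at hz
      have hz' : T ^ 2 - σ * p * k ^ 2 = z * 4 := by exact_mod_cast hz
      have hodd : Odd (σ * (p : ℤ)) := by
        refine Int.odd_mul.2 ⟨?_, ?_⟩
        · rcases Int.eq_one_or_neg_one_of_mul_eq_one (sgn_sq D φ (-1)) with h | h <;> rw [hσ, h] <;> decide
        · exact_mod_cast hp.odd_of_ne_two (by omega)
      have hev : Even (T ^ 2 - σ * p * k ^ 2) := ⟨2 * z, by rw [hz']; ring⟩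
      rw [Int.even_sub, Int.even_pow' two_ne_zero, Int.even_mul, Int.even_pow' two_ne_zero,
        or_iff_right (Int.not_even_iff_odd.2 hodd)] at hev
      exact even_iff_two_dvd.1 (Int.even_sub.2 hev)
    refine ⟨T, hT, numeric (k := k) (r := r) (by omega) ?_ (by omega) (by exact_mod_cast two_le_card_sub (G := G) hcard hb)
      ?_ ?_ hpar⟩
    · intro y hy
      have := congrArg Int.natAbs hy
      rw [Int.natAbs_mul, Int.natAbs_natCast] at this
      exact hp.eq_one_or_self_of_dvd y.natAbs ⟨_, this.symm⟩ |>.elim (fun h => by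
        rw [h] at this; omega) (fun h => by rw [h] at this; nlinarith)
    · apply Int.cast_injective (α := ℂ)
      have hpC : (p : ℂ) = 2 * (f : ℂ) + 1 := by exact_mod_cast hpf
      push_cast
      linear_combination 2 * h1 - 2 * (f : ℂ) * hT + (T : ℂ) * hpC
    · apply Int.cast_injective (α := ℂ)
      have hpC : (p : ℂ) = 2 * (f : ℂ) + 1 := by exact_mod_cast hpf
      have hTc : conj (Fr.eig 1 b) + conj (Fr.eig 2 b) = (T : ℂ) := by
        rw [← map_add, hT, map_intCast]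
      have hkc : conj (Fr.eig 1 b) - conj (Fr.eig 2 b) = (k : ℂ) * conj (gauss D φ) := by
        rw [← map_sub, hk, map_mul, map_intCast]
      simp only [map_natCast, map_intCast] at h2'
      push_cast at h2' ⊢
      have hn2 : 2 * (Fr.eig 1 b * conj (Fr.eig 1 b) + Fr.eig 2 b * conj (Fr.eig 2 b)) =
          (T : ℂ) ^ 2 + (p : ℂ) * (k : ℂ) ^ 2 := by
        linear_combination (conj (Fr.eig 1 b) + conj (Fr.eig 2 b)) * hT + (T : ℂ) * hTc +
          (conj (Fr.eig 1 b) - conj (Fr.eig 2 b)) * hk + (k : ℂ) * gauss D φ * hkc +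
          (k : ℂ) ^ 2 * gauss_conj D h2
      linear_combination 4 * h2' - 2 * (f : ℂ) * hn2 + ((T : ℂ) ^ 2 + (p : ℂ) * (k : ℂ) ^ 2) * hpC
  -- add up over the suborbits
  haveI : Fintype (orbitRel.Quotient (stabilizer G a) Ω) := Fintype.ofFinite _
  let R : Finset Ω := Finset.univ.image (Quotient.out : orbitRel.Quotient (stabilizer G a) Ω → Ω)
  let rep : Ω → Ω := fun x => Quotient.out (Quotient.mk (orbitRel (stabilizer G a) Ω) x)
  have hsubmem : ∀ x t, x ∈ sub (G := G) a t ↔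
      Quotient.mk (orbitRel (stabilizer G a) Ω) x = Quotient.mk (orbitRel (stabilizer G a) Ω) t := fun x t => by
    simp [sub]
  have hrep : ∀ x t, (t ∈ R ∧ x ∈ sub (G := G) a t) ↔ t = rep x := by
    intro x t
    constructor
    · rintro ⟨ht, hx⟩
      obtain ⟨q, -, rfl⟩ := Finset.mem_image.1 ht
      rw [hsubmem, Quotient.out_eq] at hx
      simp only [rep, hx]
    · rintro rfl
      exact ⟨Finset.mem_image_of_mem _ (Finset.mem_univ _), by rw [hsubmem]; simp only [rep, Quotient.out_eq]⟩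
  have haR : a ∈ R := by
    have h := ((hrep a (rep a)).2 rfl)
    have h' : rep a ∈ sub (G := G) a a := by
      rw [hsubmem]; exact ((hsubmem _ _).1 h.2).symm
    rw [sub_self, Finset.mem_singleton] at h'
    exact h' ▸ h.1
  have hRcard : (R.erase a).card = 3 := by
    rw [Finset.card_erase_of_mem haR, Finset.card_image_of_injective _ Quotient.out_injective, Finset.card_univ,
      ← Nat.card_eq_fintype_card, hrank]
  have hsum : ∀ i : Fin 4, i ≠ 0 → ∑ t ∈ R.erase a, Fr.eig i t = -1 := by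
    intro i hi
    have h := Fr.sum_eig_eq_zero hX0 hi R fun x => ⟨rep x, (hrep x _).2 rfl, fun t ht => (hrep x t).1 ht⟩
    rw [← Finset.sum_erase_add _ _ haR] at h
    have h1 : Fr.eig i a = 1 := by
      rw [Frame.eig, sub_self, Finset.card_singleton, Nat.cast_one, Fr.val_self, one_mul]
    rw [h1] at h
    exact eq_neg_of_add_eq_zero_left h
  have hn : ∑ t ∈ R.erase a, ((sub (G := G) a t).card : ℤ) = 2 * (p : ℤ) - 1 := by
    have h : Fintype.card Ω = ∑ t ∈ R, (sub (G := G) a t).card := by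
      rw [← Finset.card_univ, Finset.card_eq_sum_card_fiberwise (f := rep) (t := R)
        (fun x _ => ((hrep x _).2 rfl).1)]
      refine Finset.sum_congr rfl fun t ht => congrArg Finset.card ?_
      ext x
      simp only [Finset.mem_filter, Finset.mem_univ, true_and]
      exact ⟨fun e => ((hrep x t).2 e.symm).2, fun hx => ((hrep x t).1 ⟨ht, hx⟩).symm⟩
    rw [← Finset.sum_erase_add _ _ haR, sub_self, Finset.card_singleton, hcard] at h
    have h' : ((2 * p : ℕ) : ℤ) = ((∑ t ∈ R.erase a, (sub (G := G) a t).card + 1 : ℕ) : ℤ) := by rw [h]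
    push_cast at h'
    linarith
  have hper' : ∀ b, ∃ T : ℤ, b ≠ a → Fr.eig 1 b + Fr.eig 2 b = (T : ℂ) ∧
      2 * (p : ℤ) ≤ 2 * ((sub (G := G) a b).card : ℤ) - T := fun b => by
    by_cases hb : b = a
    · exact ⟨0, fun h => absurd hb h⟩
    · exact (hper b hb).imp fun T hT _ => hT
  choose T hT using hper'
  have hTsum : ∑ t ∈ R.erase a, T t = -2 := by
    apply Int.cast_injective (α := ℂ)
    push_cast
    rw [← Finset.sum_congr rfl fun t ht => (hT t (Finset.mem_erase.1 ht).1).1, Finset.sum_add_distrib,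
      hsum 1 (by decide), hsum 2 (by decide)]
    norm_num
  have hge := Finset.sum_le_sum (s := R.erase a) fun t ht => (hT t (Finset.mem_erase.1 ht).1).2
  rw [Finset.sum_const, hRcard, Finset.sum_sub_distrib, ← Finset.mul_sum, hn, hTsum, nsmul_eq_mul] at hge
  have hp0 : (3 : ℤ) ≤ p := by exact_mod_cast hp3
  push_cast at hge
  linarith

end CfsgLib.WielandtTwoP
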