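import Mathlib
import Cfsg.Agent.WielandtTwoP.Basic
import Cfsg.Agent.WielandtTwoP.RankFour
import Cfsg.Agent.S0719

/-!
Wielandt's theorem on primitive groups of degree `2p`.
-/

set_option autoImplicit false
set_option linter.unusedSectionVars false
set_option linter.style.haveILetI false

namespace CfsgLib.WielandtTwoP

open Cfsg CfsgLib.CharBasics CfsgLib.DefectOne CfsgLib.PermChar MulAction
open scoped ComplexConjugate

universe u

theorem two_transitive_of_rank_two {G : Type*} [Group G] {Ω : Type*} [Fintype Ω] [MulAction G Ω]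
    [IsPretransitive G Ω] (h : ∀ a : Ω, Nat.card (orbitRel.Quotient (stabilizer G a) Ω) = 2) :
    IsMultiplyPretransitive G Ω 2 := by
  rw [is_two_pretransitive_iff]
  intro a b c d hab hcd
  obtain ⟨g, rfl⟩ := exists_smul_eq G a c
  let π : Ω → orbitRel.Quotient (stabilizer G (g • a)) Ω := Quotient.mk _
  have hsingle : ∀ x, π x = π (g • a) → x = g • a := by
    intro x hx
    obtain ⟨k, hk⟩ := orbitRel_apply.1 (Quotient.exact hx)
    rw [← hk]
    exact k.2
  obtain ⟨u, v, -, huniv⟩ := Nat.card_eq_two_iff.1 (h (g • a))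
  have hmem : ∀ w, w = u ∨ w = v := fun w => by
    have : w ∈ ({u, v} : Set _) := huniv ▸ Set.mem_univ w
    simpa using this
  have h1 : π (g • b) ≠ π (g • a) := fun e => hab (smul_left_cancel g (hsingle _ e)).symm
  have h2 : π d ≠ π (g • a) := fun e => hcd (hsingle _ e).symm
  have heq : π d = π (g • b) := by
    rcases hmem (π d) with e1 | e1 <;> rcases hmem (π (g • b)) with e2 | e2 <;>
      rcases hmem (π (g • a)) with e3 | e3 <;> simp_all
  obtain ⟨k, hk⟩ := orbitRel_apply.1 (Quotient.exact heq)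
  refine ⟨(k : G) * g, ?_, ?_⟩
  · rw [mul_smul]; exact k.2
  · rw [mul_smul]; exact hk

variable {α : Type*} [Fintype α] [DecidableEq α] {p : ℕ}

theorem exists_setup [Fact p.Prime] (hp3 : 3 ≤ p) (hα : Fintype.card α = 2 * p) (G : Subgroup (Equiv.Perm α))
    [Fintype G] [IsPreprimitive G α] (h : FpfData G p) : ∃ D : Data G p, Setup D (Ω := α) := by
  classical
  have hp : p.Prime := Fact.out
  have hfac : (Nat.card G).factorization p = 1 := by
    have a1 := (hp.pow_dvd_iff_le_factorization Nat.card_pos.ne').not.1 h.hsq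
    have a2 := (hp.pow_dvd_iff_le_factorization (k := 1) Nat.card_pos.ne').1 (by rw [pow_one]; exact h.hdvd)
    omega
  let P : Sylow p G := default
  have hP : Nat.card P = p := by rw [P.card_eq_multiplicity, hfac, pow_one]
  obtain ⟨D, -⟩ := exists_data P hP
  refine ⟨D, ⟨?_, hα, fun g hg => ?_, fun χ h1 h2 => two_le_deg hα χ h1 h2, hp3⟩⟩
  · refine h.hcent D.x D.hx _ ?_ fun hd => D.hHp (hd.trans (Subgroup.card_subgroup_dvd_card D.V))
    rw [← Subgroup.centralizer_closure, ← Subgroup.zpowers_eq_closure, D.card_centralizer]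
    exact dvd_mul_left _ _
  · obtain ⟨m, hm⟩ := hg
    have hm0 : m ≠ 0 := fun e => (orderOf_pos g).ne' (by rw [hm, e, mul_zero])
    have hgo : orderOf (g ^ m) = p := by
      rw [orderOf_pow' _ hm0, hm, Nat.gcd_mul_left_left, Nat.mul_div_cancel _ (Nat.pos_of_ne_zero hm0)]
    simp only [piChar]
    rw [Nat.cast_eq_zero, Nat.card_eq_zero]
    exact Or.inl ⟨fun ω => h.hfpf _ hgo ω.1 (smul_of_pow g ω.2 m)⟩

theorem main (hp : p.Prime) (hα : Fintype.card α = 2 * p) (G : Subgroup (Equiv.Perm α))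
    (hG : IsPreprimitive G α) (a₀ : α) :
    IsMultiplyPretransitive G α 2 ∨ (Nat.card (orbitRel.Quotient (stabilizer G a₀) α) = 3 ∧
      ∃ a : ℕ, 0 < a ∧ p = 2 * a ^ 2 + 2 * a + 1 ∧ ∀ b : α, b ≠ a₀ →
        Nat.card (orbit (stabilizer G a₀) b) = a * (2 * a + 1) ∨
        Nat.card (orbit (stabilizer G a₀) b) = (a + 1) * (2 * a + 1)) := by
  classical
  haveI := Fact.mk hp
  by_cases hp2 : p = 2
  · exact Or.inl (two_transitive_degree_four (by rw [hα, hp2]) G hG)
  have hp3 : 3 ≤ p := by have := hp.two_le; omega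
  rcases fpfData_or_two_transitive hp3 hα G hG with h | h
  swap
  · exact Or.inl h
  haveI := hG
  haveI : Fintype G := Fintype.ofFinite _
  haveI : Nonempty α := ⟨a₀⟩
  obtain ⟨D, hD⟩ := exists_setup hp3 hα G h
  obtain ⟨χ₀, hχ₀, hm₀, hcase⟩ := decompose D hD
  rcases hcase with ⟨hout, -⟩ | ⟨s, h1s, h0s, hsm, hout, hd₀, hshape⟩
  · left
    refine two_transitive_of_rank_two fun a => ?_
    rw [rank_eq a {oneChar, χ₀} (fun χ hχ => by
      simp only [Finset.mem_insert, Finset.mem_singleton] at hχ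
      rcases hχ with rfl | rfl
      · exact mlt_one
      · exact hm₀) (fun χ hχ => by
      simp only [Finset.mem_insert, Finset.mem_singleton, not_or] at hχ
      exact hout χ hχ.1 hχ.2), Finset.card_pair (Ne.symm hχ₀)]
  rcases hshape with ⟨χ₁, rfl, hd₁⟩ | ⟨φ, F, hε, hidx, hsF, hdeg⟩
  · right
    rw [Finset.mem_singleton] at h1s h0s
    have hT : ∀ χ ∈ ({oneChar, χ₁, χ₀} : Finset (IrrCharacter G)), mlt α χ = 1 := fun χ hχ => by
      simp only [Finset.mem_insert, Finset.mem_singleton] at hχ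
      rcases hχ with rfl | rfl | rfl
      · exact mlt_one
      · exact hsm _ (Finset.mem_singleton_self _)
      · exact hm₀
    have hTout : ∀ χ, χ ∉ ({oneChar, χ₁, χ₀} : Finset (IrrCharacter G)) → mlt α χ = 0 := fun χ hχ => by
      simp only [Finset.mem_insert, Finset.mem_singleton, not_or] at hχ
      exact hout χ hχ.1 hχ.2.2 (by simpa using hχ.2.1)
    have hcard3 : ({oneChar, χ₁, χ₀} : Finset (IrrCharacter G)).card = 3 := by
      rw [Finset.card_insert_of_notMem (by simp [h1s, Ne.symm hχ₀]), Finset.card_pair (Ne.symm h0s)]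
    have hrank : Nat.card (orbitRel.Quotient (stabilizer G a₀) α) = 3 := by
      rw [rank_eq a₀ _ hT hTout, hcard3]
    refine ⟨hrank, ?_⟩
    haveI : Fintype (IrrCharacter G) := Fintype.ofFinite _
    refine Cfsg.Agent.S0719.result hG hα a₀ hrank (χ₁ : G → ℂ) (χ₀ : G → ℂ) χ₁.2 χ₀.2 ?_ ?_ ?_
    · funext g
      have e := congrFun (eq_of_mult _ hT hTout) g
      rw [Finset.sum_insert (by simp [h1s, Ne.symm hχ₀]), Finset.sum_pair (Ne.symm h0s)] at e
      exact e.trans (by simp only [Pi.add_apply, oneChar_apply, add_assoc])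
    · rw [apply_one (isCharacter_of_irr χ₁.2), hd₁, Nat.cast_sub hp.one_le, Nat.cast_one]
    · rw [apply_one (isCharacter_of_irr χ₀.2), hd₀]
  · exfalso
    by_cases h3 : 3 ≤ (D.U φ).index
    · exact no_small_family D hD F hε h3 1 (hdeg 1)
    · exact no_rank_four D hD χ₀ hχ₀ hm₀ s h1s h0s hsm hout hd₀ F hε (by omega) hsF hdeg

end CfsgLib.WielandtTwoP
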